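import Cfsg.Agent.Lib.Recog.EvenUnitary.Ident

/-!
A group with the hypotheses of S2212 is `PGU(3,q)`: both act on the same coordinates with the same
generators, and the orders agree.
-/

set_option autoImplicit false
set_option linter.unusedSectionVars false
set_option linter.style.haveILetI false

namespace CfsgLib.Recog.EvenUnitary

open CfsgLib.Chev.PSUSyl Subgroup Matrix
open CfsgLib.Chev.PSUSyl.QField.UQ (mat)

universe u v w

variable {F : Type v} [Field F] [Fintype F] {h : QField F}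

/-- Homogeneous coordinates. -/
def vec : Option h.UQ → Fin 3 → F
  | none => ![1, 0, 0]
  | some x => ![x.b, x.a ^ h.q, 1]

theorem vec_inj {o o' : Option h.UQ} {s : F} (hs : s ≠ 0) (e : vec o = s • vec o') : o = o' := by
  have h0 := congrFun e 0
  have h1 := congrFun e 1
  have h2 := congrFun e 2
  rcases o with _ | x <;> rcases o' with _ | y <;> simp [vec] at h0 h1 h2 ⊢
  · exact hs h2.symm
  · subst h2
    simp only [one_mul] at h0 h1
    refine QField.UQ.ext ?_ h0
    have := congrArg (fun z : F => z ^ h.q) h1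
    simpa [h.pow_pow'] using this

theorem matU_vec (x y : h.UQ) :
    (matU x : Matrix (Fin 3) (Fin 3) F) *ᵥ vec (some y) = vec (some (x * y)) := by
  show mat x *ᵥ _ = _
  ext i
  fin_cases i <;>
    simp [mat, vec, Matrix.mulVec, dotProduct, Fin.sum_univ_three, QField.UQ.mul_a, QField.UQ.mul_b,
      h.add_pow'] <;> ring

theorem matU_none (x : h.UQ) :
    (matU x : Matrix (Fin 3) (Fin 3) F) *ᵥ vec (none : Option h.UQ) = vec (none : Option h.UQ) := by
  show mat x *ᵥ _ = _
  ext i
  fin_cases i <;> simp [mat, vec, Matrix.mulVec, dotProduct, Fin.sum_univ_three]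

variable (h) in
/-- The torus element of the scalar `l`. -/
def torU (l : Fˣ) : GL (Fin 3) F := diagU ![l ^ h.q, l ^ h.q * l⁻¹, l⁻¹]

theorem torU_mem (l : Fˣ) : torU h l ∈ Hyp h := by
  have hl : (l : F) ≠ 0 := l.ne_zero
  refine diagU_mem _ ?_ ?_
  · show ((l ^ h.q : Fˣ) : F) * ((l⁻¹ : Fˣ) : F) ^ h.q = 1
    rw [← Units.val_pow_eq_pow_val, ← Units.val_mul, inv_pow, mul_inv_cancel, Units.val_one]
  · show ((l ^ h.q * l⁻¹ : Fˣ) : F) * ((l ^ h.q * l⁻¹ : Fˣ) : F) ^ h.q = 1
    simp only [Units.val_mul, Units.val_pow_eq_pow_val, Units.val_inv_eq_inv_val, mul_pow, h.pow_pow',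
      inv_pow]
    field_simp

theorem torU_vec (l : Fˣ) (y : h.UQ) :
    (torU h l : Matrix (Fin 3) (Fin 3) F) *ᵥ vec (some y) = (l : F)⁻¹ • vec (some (theta l y)) := by
  have hl : (l : F) ≠ 0 := l.ne_zero
  show Matrix.diagonal _ *ᵥ _ = _
  ext i
  fin_cases i <;> simp [vec, theta, Matrix.mulVec_diagonal, mul_pow] <;> field_simp

theorem torU_none (l : Fˣ) : (torU h l : Matrix (Fin 3) (Fin 3) F) *ᵥ vec (none : Option h.UQ) =
    (l : F) ^ h.q • vec (none : Option h.UQ) := by
  show Matrix.diagonal _ *ᵥ _ = _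
  ext i
  fin_cases i <;> simp [vec, Matrix.mulVec_diagonal]

variable {G : Type u} [Group G] [Finite G] (H : Hypo h G)

/-- Pairs with the same action on the coordinates. -/
def pairs (co : H.Pt → Fin 3 → F) : Subgroup (G × ↥(Hyp h)) where
  carrier := {p | ∀ R, ∃ s : F, s ≠ 0 ∧
    ((p.2 : GL (Fin 3) F) : Matrix (Fin 3) (Fin 3) F) *ᵥ co R = s • co (p.1 • R)}
  one_mem' := fun R => ⟨1, one_ne_zero, by simp⟩
  mul_mem' := fun {a b} ha hb R => by
    obtain ⟨s, hs, h1⟩ := hb R
    obtain ⟨r, hr, h2⟩ := ha (b.1 • R)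
    refine ⟨s * r, mul_ne_zero hs hr, ?_⟩
    show (((a.2 : GL (Fin 3) F) : Matrix (Fin 3) (Fin 3) F) *
      ((b.2 : GL (Fin 3) F) : Matrix (Fin 3) (Fin 3) F)) *ᵥ co R = _
    rw [← mulVec_mulVec, h1, mulVec_smul, h2, smul_smul, Prod.fst_mul, mul_smul a.1]
  inv_mem' := fun {a} ha R => by
    obtain ⟨s, hs, h1⟩ := ha (a.1⁻¹ • R)
    rw [smul_inv_smul] at h1
    refine ⟨s⁻¹, inv_ne_zero hs, ?_⟩
    show (((a.2 : GL (Fin 3) F)⁻¹ : GL (Fin 3) F) : Matrix (Fin 3) (Fin 3) F) *ᵥ co R =
      s⁻¹ • co (a.1⁻¹ • R)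
    have h2 := congrArg (fun v =>
      (((a.2 : GL (Fin 3) F)⁻¹ : GL (Fin 3) F) : Matrix (Fin 3) (Fin 3) F) *ᵥ v) h1
    simp only [mulVec_mulVec, mulVec_smul, ← Units.val_mul, inv_mul_cancel, Units.val_one, one_mulVec] at h2
    rw [h2, smul_smul, inv_mul_cancel₀ hs, one_smul]

include H in
theorem Hypo.mulEquiv : Nonempty (G ≃* ↥(Hyp h) ⧸ Subgroup.center ↥(Hyp h)) := by
  classical
  obtain ⟨P, hP, hw⟩ := H.exists_w_fix
  let K : Frame H := ⟨P, hP, hw⟩
  obtain ⟨J⟩ := K.exists_swap
  let π : Option h.UQ ≃ H.Pt := Equiv.ofBijective K.pt ⟨K.pt_inj, K.pt_surj⟩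
  let co : H.Pt → Fin 3 → F := fun R => vec (π.symm R)
  have hco : ∀ o, co (K.pt o) = vec o := fun o => by
    show vec (π.symm (π o)) = _
    rw [Equiv.symm_apply_apply]
  have hco_inj : ∀ R R' : H.Pt, ∀ s : F, s ≠ 0 → co R = s • co R' → R = R' := fun R R' s hs e =>
    π.symm.injective (vec_inj hs e)
  let Γ := pairs H co
  let f : ↥Γ →* G := (MonoidHom.fst G _).comp Γ.subtype
  let r : ↥Γ →* ↥(Hyp h) := (MonoidHom.snd G _).comp Γ.subtype
  -- the generators
  have hS : ∀ x : h.UQ, H.ι x ∈ f.range := by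
    intro x
    refine ⟨⟨(H.ι x, ⟨matU x, matU_mem x⟩), fun R => ?_⟩, rfl⟩
    obtain ⟨o, rfl⟩ := K.pt_surj R
    refine ⟨1, one_ne_zero, ?_⟩
    show (matU x : Matrix (Fin 3) (Fin 3) F) *ᵥ co (K.pt o) = (1 : F) • co (H.ι x • K.pt o)
    rw [one_smul]
    cases o with
    | none =>
      rw [show H.ι x • K.pt none = K.pt none from K.S_smul_base (H.S_le_N (H.mem_S_of x)), hco]
      exact matU_none x
    | some y => rw [K.ι_smul_pt, hco, hco, matU_vec]
  have hD : ∀ l : Fˣ, (K.tor l : G) ∈ f.range := by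
    intro l
    refine ⟨⟨((K.tor l : G), ⟨torU h l, torU_mem l⟩), fun R => ?_⟩, rfl⟩
    obtain ⟨o, rfl⟩ := K.pt_surj R
    cases o with
    | none =>
      refine ⟨(l : F) ^ h.q, pow_ne_zero _ l.ne_zero, ?_⟩
      show (torU h l : Matrix (Fin 3) (Fin 3) F) *ᵥ co (K.pt none) =
        (l : F) ^ h.q • co ((K.tor l : G) • K.pt none)
      rw [show (K.tor l : G) • K.pt none = K.pt none from K.S_smul_base (K.tor l).2, hco]
      exact torU_none l
    | some y =>
      refine ⟨(l : F)⁻¹, inv_ne_zero l.ne_zero, ?_⟩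
      show (torU h l : Matrix (Fin 3) (Fin 3) F) *ᵥ co (K.pt (some y)) =
        (l : F)⁻¹ • co ((K.tor l : G) • K.pt (some y))
      rw [K.tor_smul_pt, hco, hco, torU_vec]
  have hJ : J.u ∈ f.range := by
    refine ⟨⟨(J.u, ⟨flipU F, flipU_mem⟩), fun R => ?_⟩, rfl⟩
    obtain ⟨o, rfl⟩ := K.pt_surj R
    show ∃ s : F, s ≠ 0 ∧ (!![0, 0, 1; 0, 1, 0; 1, 0, 0] : Matrix (Fin 3) (Fin 3) F) *ᵥ co (K.pt o) =
      s • co (J.u • K.pt o)
    rw [hco]
    cases o with
    | none =>
      refine ⟨1, one_ne_zero, ?_⟩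
      rw [show J.u • K.pt none = K.pt (some 1) by rw [K.pt_one]; exact J.u_base, hco, one_smul]
      ext i
      fin_cases i <;> simp [vec, QField.UQ.one_a, QField.UQ.one_b, zero_pow q_ne_zero, Matrix.mulVec,
        dotProduct, Fin.sum_univ_three]
    | some y =>
      by_cases hy : y = 1
      · subst hy
        refine ⟨1, one_ne_zero, ?_⟩
        rw [show J.u • K.pt (some 1) = K.pt none by rw [K.pt_one]; exact J.u_origin, hco, one_smul]
        ext i
        fin_cases i <;> simp [vec, QField.UQ.one_a, QField.UQ.one_b, zero_pow q_ne_zero, Matrix.mulVec,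
          dotProduct, Fin.sum_univ_three]
      · obtain ⟨ha, hb⟩ := J.T_formula hy
        have hy0 := b_ne_zero hy
        refine ⟨y.b, hy0, ?_⟩
        rw [J.T_spec hy, hco]
        ext i
        fin_cases i <;> simp [vec, ha, hb, div_pow, h.pow_pow', Matrix.mulVec, dotProduct,
          Fin.sum_univ_three, hy0]
        all_goals field_simp
  -- the first projection is onto
  have hN : ∀ g ∈ H.N, g ∈ f.range := by
    intro g hg
    have hgP : g • K.P ≠ H.base := fun e => K.ne (by
      rw [← (H.fix_base).2 hg] at e; exact smul_left_cancel _ e)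
    obtain ⟨x, hx⟩ := H.regular K.ne hgP
    let d : H.N := ⟨(H.ι x)⁻¹ * g, mul_mem (inv_mem (H.S_le_N (H.mem_S_of x))) hg⟩
    have hdD : (d : G) ∈ H.D K.P := ⟨H.fix_base.2 d.2, by
      show ((H.ι x)⁻¹ * g) • K.P = K.P
      rw [mul_smul, ← hx, inv_smul_smul]⟩
    have hd : K.tor (H.elHom d) = d := K.D_inj (K.tor_mem _) hdD (K.tor_el _)
    have := mul_mem (hS x) (hD (H.elHom d))
    rw [hd] at this
    rwa [show H.ι x * (d : G) = g from mul_inv_cancel_left _ _] at this
  have hfs : Function.Surjective f := by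
    intro g
    refine MonoidHom.mem_range.1 ?_
    obtain ⟨o, ho⟩ := K.pt_surj (g • H.base)
    cases o with
    | none => exact hN g (H.fix_base.1 ho.symm)
    | some x =>
      have hb : (H.ι x * J.u) • H.base = K.pt (some x) := by
        rw [mul_smul, J.u_base]; rfl
      have h1 : (H.ι x * J.u)⁻¹ * g ∈ H.N := H.fix_base.1 (by
        rw [mul_smul, ← ho, ← hb, inv_smul_smul])
      have := mul_mem (mul_mem (hS x) hJ) (hN _ h1)
      rwa [mul_inv_cancel_left] at this
  -- the second projection is injective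
  have hri : Function.Injective r := by
    rw [← MonoidHom.ker_eq_bot_iff, eq_bot_iff]
    rintro ⟨⟨g, M⟩, hgM⟩ hx
    have hM : M = 1 := hx
    subst hM
    refine Subgroup.mem_bot.2 (Subtype.ext (Prod.ext ?_ rfl))
    show g = 1
    have hfix : ∀ R : H.Pt, g • R = R := fun R => by
      obtain ⟨s, hs, h1⟩ := hgM R
      refine (hco_inj R (g • R) s hs ?_).symm
      simpa using h1
    have hgD : g ∈ H.D K.P := ⟨hfix _, hfix _⟩
    by_contra hg1
    obtain ⟨x, hx⟩ := QField.UQ.exists_mk (h := h) 1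
    have hx1 : x ≠ 1 := fun e => one_ne_zero (α := F) (by rw [← hx, e]; rfl)
    obtain ⟨c, hc, hgc⟩ := K.fix_three hgD hx1 (hfix _) hg1
    have h2 := hfix (K.pt (some x))
    rw [hgc, K.w_smul_pt] at h2
    have h3 := twist_one_eq hc (Option.some_injective _ (K.pt_inj h2))
    rw [hx] at h3
    exact one_ne_zero h3
  -- the scalars act trivially
  have hsc : ∀ c : ↥(mu h), ((1 : G), (⟨scalU c, scalU_mem c⟩ : ↥(Hyp h))) ∈ Γ := fun c R =>
    ⟨((c : Fˣ) : F), Units.ne_zero _, by
      show (scalU c : Matrix (Fin 3) (Fin 3) F) *ᵥ co R = _ • co ((1 : G) • R)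
      rw [one_smul, scalU_val, smul_mulVec, one_mulVec]⟩
  -- counting
  have hker : h.q + 1 ≤ Nat.card f.ker := by
    rw [← card_mu (h := h)]
    refine Nat.card_le_card_of_injective (fun c => (⟨⟨_, hsc c⟩, rfl⟩ : f.ker)) fun c c' e => ?_
    have e' : scalU c = scalU c' :=
      congrArg (fun p : f.ker => (((p : ↥Γ) : G × ↥(Hyp h)).2 : GL (Fin 3) F)) e
    have e2 := congrArg (fun M : GL (Fin 3) F => (M : Matrix (Fin 3) (Fin 3) F) 0 0) e'
    simp [scalU_val] at e2
    exact Subtype.ext (Units.ext e2)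
  have hΓ : Nat.card Γ = Nat.card G * Nat.card f.ker := by
    rw [Subgroup.card_eq_card_quotient_mul_card_subgroup f.ker,
      Nat.card_congr (QuotientGroup.quotientKerEquivOfSurjective f hfs).toEquiv]
  haveI : Finite ↥(Hyp h) := inferInstance
  have hH : Nat.card ↥(Hyp h) = Nat.card G * (h.q + 1) := by
    rw [card_hyp, H.card_G]; ring
  have hle : Nat.card Γ ≤ Nat.card ↥(Hyp h) := Nat.card_le_card_of_injective r hri
  have hGpos : 0 < Nat.card G := Nat.card_pos
  have hkeq : Nat.card f.ker = h.q + 1 := by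
    refine le_antisymm ?_ hker
    rw [hΓ, hH] at hle
    exact Nat.le_of_mul_le_mul_left hle hGpos
  have hrb : Function.Bijective r :=
    (Nat.bijective_iff_injective_and_card r).2 ⟨hri, by rw [hΓ, hH, hkeq]⟩
  let e : ↥Γ ≃* ↥(Hyp h) := MulEquiv.ofBijective r hrb
  let φ : ↥(Hyp h) →* G := f.comp e.symm.toMonoidHom
  have hφs : Function.Surjective φ := hfs.comp e.symm.surjective
  have hcen : Subgroup.center ↥(Hyp h) ≤ φ.ker := by
    intro g hg
    obtain ⟨c, hc⟩ := center_le g hg
    have hgc : g = ⟨scalU c, scalU_mem c⟩ := Subtype.ext hc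
    have h1 : e.symm g = ⟨_, hsc c⟩ := e.injective (by rw [e.apply_symm_apply]; exact hgc)
    exact MonoidHom.mem_ker.2 (by
      show f (e.symm g) = 1
      rw [h1]; rfl)
  have hcard : Nat.card φ.ker = h.q + 1 := by
    have := Subgroup.card_eq_card_quotient_mul_card_subgroup φ.ker
    rw [Nat.card_congr (QuotientGroup.quotientKerEquivOfSurjective φ hφs).toEquiv, hH] at this
    exact (Nat.eq_of_mul_eq_mul_left hGpos this).symm
  have hkc : φ.ker = Subgroup.center ↥(Hyp h) := by
    refine (eq_of_le_of_card_ge hcen ?_).symm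
    rw [hcard, ← card_mu (h := h)]
    refine Nat.card_le_card_of_injective
      (fun c => (⟨⟨scalU c, scalU_mem c⟩, scalU_central c⟩ : Subgroup.center ↥(Hyp h))) fun c c' e => ?_
    have e' : scalU c = scalU c' :=
      congrArg (fun p : Subgroup.center ↥(Hyp h) => ((p : ↥(Hyp h)) : GL (Fin 3) F)) e
    have e2 := congrArg (fun M : GL (Fin 3) F => (M : Matrix (Fin 3) (Fin 3) F) 0 0) e'
    simp [scalU_val] at e2
    exact Subtype.ext (Units.ext e2)
  exact ⟨(QuotientGroup.quotientKerEquivOfSurjective φ hφs).symm.trans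
    (QuotientGroup.quotientMulEquivOfEq hkc)⟩

/-- The data of an involution centralizer pass along an isomorphism. -/
def Cent.mapEquiv {A : Type u} {B : Type w} [Group A] [Group B] (C : Cent h A) (e : A ≃* B) : Cent h B where
  ι := e.toMonoidHom.comp C.ι
  w := e.toMonoidHom.comp C.w
  ι_inj := e.injective.comp C.ι_inj
  w_inj := e.injective.comp C.w_inj
  disj x c he := C.disj x c (e.injective he)
  conj c x := by
    show e (C.w c) * e (C.ι x) * (e (C.w c))⁻¹ = e (C.ι (twist c x))
    rw [← map_inv, ← map_mul, ← map_mul, C.conj]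
  cent g := by
    obtain ⟨a, rfl⟩ := e.surjective g
    show e a * e (C.ι (zOne h)) = e (C.ι (zOne h)) * e a ↔ ∃ x c, e a = e (C.ι x) * e (C.w c)
    simp only [← map_mul, e.injective.eq_iff]
    exact C.cent a

/-- A centralizer isomorphic to that of the model gives the hypotheses. -/
theorem exists_hypo {T : Type w} [Group T] (C : Cent h T) (heven : Even (Nat.card G))
    (hconj : ∀ s t : G, orderOf s = 2 → orderOf t = 2 → IsConj s t)
    (hC : ∀ (x : G) (y : T), orderOf x = 2 → orderOf y = 2 →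
      Nonempty (↥(centralizer ({x} : Set G)) ≃* ↥(centralizer ({y} : Set T))))
    (hS : ∀ P : Sylow 2 G, ¬ (P : Subgroup G).Normal) : Nonempty (Hypo h G) := by
  classical
  haveI : Fact (Nat.Prime 2) := ⟨Nat.prime_two⟩
  obtain ⟨x0, hx0⟩ := exists_prime_orderOf_dvd_card' (G := G) 2 (even_iff_two_dvd.1 heven)
  set y := C.ι (zOne h) with hy
  have hy2 : orderOf y = 2 := by
    rw [hy, orderOf_injective C.ι C.ι_inj]
    exact orderOf_eq_prime (by rw [pow_two, QField.UQ.sq_of_center rfl])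
      (fun e => one_ne_zero (congrArg QField.UQ.b e))
  obtain ⟨e⟩ := hC x0 y hx0 hy2
  have hmem : ∀ g, g ∈ centralizer ({y} : Set T) ↔ ∃ x c, g = C.ι x * C.w c := fun g =>
    mem_centralizer_singleton_iff.trans (C.cent g)
  let ιC : h.UQ →* ↥(centralizer ({y} : Set T)) :=
    C.ι.codRestrict _ fun x => (hmem _).2 ⟨x, 1, by rw [map_one, mul_one]⟩
  let wC : ↥(mu h) →* ↥(centralizer ({y} : Set T)) :=
    C.w.codRestrict _ fun c => (hmem _).2 ⟨1, c, by rw [map_one, one_mul]⟩
  let j : ↥(centralizer ({y} : Set T)) →* G :=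
    (centralizer ({x0} : Set G)).subtype.comp e.symm.toMonoidHom
  have hj : Function.Injective j := Subtype.val_injective.comp e.symm.injective
  set z := j (ιC (zOne h)) with hz
  have hzc : ∀ k : ↥(centralizer ({y} : Set T)), k * ιC (zOne h) = ιC (zOne h) * k := fun k =>
    Subtype.ext (mem_centralizer_singleton_iff.1 k.2)
  have hz2 : orderOf z = 2 := by
    rw [hz, orderOf_injective j hj, ← orderOf_coe]
    exact hy2
  have hrange : ∀ g, g ∈ centralizer ({x0} : Set G) ↔ ∃ k, j k = g := fun g =>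
    ⟨fun hg => ⟨e ⟨g, hg⟩, congrArg Subtype.val (e.symm_apply_apply ⟨g, hg⟩)⟩,
      fun ⟨k, hk⟩ => hk ▸ (e.symm k).2⟩
  have hle : centralizer ({x0} : Set G) ≤ centralizer ({z} : Set G) := by
    intro g hg
    obtain ⟨k, rfl⟩ := (hrange g).1 hg
    rw [mem_centralizer_singleton_iff, hz, ← map_mul, hzc, map_mul]
  have hcz : centralizer ({x0} : Set G) = centralizer ({z} : Set G) := by
    refine eq_of_le_of_card_ge hle (le_of_eq ?_)
    obtain ⟨g, hg⟩ := isConj_iff.1 (hconj _ _ hx0 hz2)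
    have hm : ∀ k, k ∈ centralizer ({x0} : Set G) ↔ MulAut.conj g k ∈ centralizer ({z} : Set G) := by
      intro k
      rw [mem_centralizer_singleton_iff, mem_centralizer_singleton_iff, ← hg, ← MulAut.conj_apply,
        ← map_mul, ← map_mul, (MulAut.conj g).injective.eq_iff]
    exact (Nat.card_congr ((MulAut.conj g).toEquiv.subtypeEquiv hm)).symm
  let C' : Cent h G :=
    { ι := j.comp ιC
      w := j.comp wC
      ι_inj := hj.comp fun a b hab => C.ι_inj (congrArg Subtype.val hab)
      w_inj := hj.comp fun a b hab => C.w_inj (congrArg Subtype.val hab)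
      disj := fun x c he => C.disj x c (congrArg Subtype.val (hj he))
      conj := fun c x => by
        show j (wC c) * j (ιC x) * (j (wC c))⁻¹ = j (ιC (twist c x))
        rw [← map_inv, ← map_mul, ← map_mul]
        exact congrArg j (Subtype.ext (C.conj c x))
      cent := fun g => by
        show g * z = z * g ↔ _
        rw [← mem_centralizer_singleton_iff, ← hcz, hrange]
        constructor
        · rintro ⟨k, rfl⟩
          obtain ⟨x, c, hk⟩ := (hmem _).1 k.2
          exact ⟨x, c, by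
            show j k = j (ιC x) * j (wC c)
            rw [← map_mul]; exact congrArg j (Subtype.ext hk)⟩
        · rintro ⟨x, c, rfl⟩
          exact ⟨ιC x * wC c, map_mul _ _ _⟩ }
  by_cases hn : (C'.ι.range).Normal
  · exfalso
    -- a normal subgroup isomorphic to the 2-part is a Sylow 2-subgroup
    have hpg : IsPGroup 2 C'.ι.range := IsPGroup.of_card (n := h.n * 3) (by
      rw [← Nat.card_congr (MonoidHom.ofInjective C'.ι_inj).toEquiv, QField.UQ.card_eq, pow_mul])
    obtain ⟨Q, hQ⟩ := hpg.exists_le_sylow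
    refine hS Q ?_
    suffices hQe : (Q : Subgroup G) = C'.ι.range from hQe ▸ hn
    refine (eq_of_le_of_card_ge hQ ?_).symm
    rw [← Nat.card_congr (MonoidHom.ofInjective C'.ι_inj).toEquiv, QField.UQ.card_eq]
    -- a central involution of `Q`
    rcases eq_or_ne (Q : Subgroup G) ⊥ with hb | hb
    · rw [hb, card_bot]; exact Nat.one_le_pow _ _ (by have := one_lt_q (h := h); omega)
    haveI : Nontrivial (Q : Subgroup G) := (nontrivial_iff_ne_bot _).2 hb
    haveI : Nontrivial (center (Q : Subgroup G)) := Q.2.center_nontrivial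
    obtain ⟨k, hk⟩ := (Q.2.to_subgroup (center (Q : Subgroup G))).exists_card_eq
    obtain ⟨v, hv⟩ := exists_prime_orderOf_dvd_card' (G := center (Q : Subgroup G)) 2 (by
      rw [hk]
      refine dvd_pow_self 2 fun e => ?_
      rw [e, pow_zero] at hk
      exact absurd hk (Finite.one_lt_card_iff_nontrivial.2 inferInstance).ne')
    have hv' : orderOf ((v : (Q : Subgroup G)) : G) = 2 := by rw [orderOf_coe, orderOf_coe, hv]
    obtain ⟨g, hg⟩ := isConj_iff.1 (hconj _ _ hv' hz2)
    have hle' : (Q : Subgroup G).map (MulAut.conj g).toMonoidHom ≤ centralizer ({z} : Set G) := by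
      rintro _ ⟨p, hp, rfl⟩
      refine mem_centralizer_singleton_iff.2 ?_
      have := congrArg Subtype.val (mem_center_iff.1 v.2 ⟨p, hp⟩)
      simp only [coe_mul] at this
      rw [← hg]
      show g * p * g⁻¹ * (g * ((v : (Q : Subgroup G)) : G) * g⁻¹) =
        g * ((v : (Q : Subgroup G)) : G) * g⁻¹ * (g * p * g⁻¹)
      calc g * p * g⁻¹ * (g * ((v : (Q : Subgroup G)) : G) * g⁻¹)
          = g * (p * ((v : (Q : Subgroup G)) : G)) * g⁻¹ := by group
        _ = g * (((v : (Q : Subgroup G)) : G) * p) * g⁻¹ := by rw [this]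
        _ = _ := by group
    have hd := card_dvd_of_le hle'
    rw [card_map_of_injective (MulAut.conj g).injective] at hd
    have hcard : Nat.card (centralizer ({z} : Set G)) ≤ h.q ^ 3 * (h.q + 1) ∧
        Nat.card (centralizer ({z} : Set G)) ∣ h.q ^ 3 * (h.q + 1) := by
      have he : Nat.card (centralizer ({z} : Set G)) = h.q ^ 3 * (h.q + 1) := by
        rw [← QField.UQ.card_eq (h := h), ← card_mu (h := h), ← Nat.card_prod]
        refine (Nat.card_congr (Equiv.ofBijective
          (fun p => ⟨C'.ι p.1 * C'.w p.2, mem_centralizer_singleton_iff.2 ((C'.cent _).2 ⟨p.1, p.2, rfl⟩)⟩)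
          ⟨fun p p' e => ?_, fun g => ?_⟩)).symm
        · have e' : C'.ι p.1 * C'.w p.2 = C'.ι p'.1 * C'.w p'.2 := congrArg Subtype.val e
          have e'' : C'.ι (p'.1⁻¹ * p.1) = C'.w (p'.2 * p.2⁻¹) := by
            rw [map_mul, map_inv, map_mul, map_inv, eq_mul_inv_iff_mul_eq, mul_assoc, e', inv_mul_cancel_left]
          have hx := inv_mul_eq_one.1 (C'.disj _ _ e'')
          rw [hx] at e'
          exact Prod.ext hx.symm (C'.w_inj (mul_left_cancel e'))
        · obtain ⟨x, c, hg⟩ := (C'.cent g.1).1 (mem_centralizer_singleton_iff.1 g.2)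
          exact ⟨(x, c), Subtype.ext hg.symm⟩
      exact ⟨he.le, he ▸ dvd_rfl⟩
    obtain ⟨i, hi⟩ := Q.2.exists_card_eq
    rw [hi] at hd ⊢
    exact Nat.le_of_dvd (by positivity)
      (((Nat.coprime_two_left.2 odd_q_add_one).pow_left i).dvd_of_dvd_mul_right (hd.trans hcard.2))
  · exact ⟨{ C' with conj_all := hconj, not_normal := hn }⟩

end CfsgLib.Recog.EvenUnitary
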