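import Cfsg.Agent.Lib.Recog.EvenUnitary.Order

/-!
Coordinates on the points: the torus acts by scalars and the unital blocks are the fixed-point sets of the
conjugates of the norm-one torus (S2212).
-/

set_option autoImplicit false
set_option linter.unusedSectionVars false

namespace CfsgLib.Recog.EvenUnitary

open CfsgLib.Chev.PSUSyl Subgroup

universe u v

variable {F : Type v} [Field F] [Fintype F] {h : QField F} {G : Type u} [Group G] [Finite G]

theorem exists_mu_ne_one (h : QField F) : ∃ c : ↥(mu h), c ≠ 1 := by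
  by_contra he
  push Not at he
  have : Nat.card (mu h) ≤ 1 := Nat.card_le_card_of_injective (fun _ => ()) (fun a b _ => (he a).trans (he b).symm)
    |>.trans (by simp)
  rw [card_mu] at this
  have := one_lt_q (h := h)
  omega

theorem mu_val_ne_one {c : ↥(mu h)} (hc : c ≠ 1) : ((c : Fˣ) : F) ≠ 1 := fun e =>
  hc (Subtype.ext (Units.ext e))

theorem twist_one_eq {c : ↥(mu h)} (hc : c ≠ 1) {x : h.UQ} (e : twist c x = x) : x.a = 0 := by
  have e' : ((c : Fˣ) : F) * x.a = x.a := congrArg QField.UQ.a e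
  have : (((c : Fˣ) : F) - 1) * x.a = 0 := by linear_combination e'
  exact (mul_eq_zero.1 this).resolve_left (sub_ne_zero.2 (mu_val_ne_one hc))

theorem twist_central (c : ↥(mu h)) {x : h.UQ} (hx : x.a = 0) : twist c x = x :=
  QField.UQ.ext (by show _ * x.a = x.a; rw [hx, mul_zero]) rfl

/-- The scaling by a unit. -/
def theta (l : Fˣ) (x : h.UQ) : h.UQ :=
  ⟨(l : F) * x.a, (l : F) * (l : F) ^ h.q * x.b, by
    simp only [mul_pow, h.pow_pow']
    linear_combination ((l : F) * (l : F) ^ h.q) * x.ok⟩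

theorem theta_mul (l : Fˣ) (x y : h.UQ) : theta l (x * y) = theta l x * theta l y := by
  refine QField.UQ.ext (mul_add _ _ _) ?_
  show (l : F) * (l : F) ^ h.q * (x.b + y.b + x.a * y.a ^ h.q) = (l : F) * (l : F) ^ h.q * x.b +
    (l : F) * (l : F) ^ h.q * y.b + (l : F) * x.a * ((l : F) * y.a) ^ h.q
  rw [mul_pow]
  ring

theorem theta_twist (l : Fˣ) (c : ↥(mu h)) (x : h.UQ) : theta l (twist c x) = twist c (theta l x) :=
  QField.UQ.ext (mul_left_comm _ _ _) rfl

theorem central_mul_comm {z : h.UQ} (hz : z.a = 0) (x : h.UQ) : z * x = x * z :=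
  (QField.UQ.comm_iff _ _).2 (by simp [hz, zero_pow q_ne_zero])

namespace Hypo

variable (H : Hypo h G)
include H

theorem w_mem_C (c : ↥(mu h)) : H.w c ∈ H.C := H.mem_C.2 ⟨1, c, by rw [map_one, one_mul]⟩

theorem w_mem_N (c : ↥(mu h)) : H.w c ∈ H.N := H.C_le_N (H.w_mem_C c)

theorem el_w (c : ↥(mu h)) : H.el ⟨H.w c, H.w_mem_N c⟩ = ((c : Fˣ) : F) := by
  have e : H.act ⟨H.w c, H.w_mem_N c⟩ (lift 1) = twist c (lift 1) := by
    apply H.ι_inj
    rw [H.act_spec, ← H.conj]
  show (H.act ⟨H.w c, H.w_mem_N c⟩ (lift 1)).a = _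
  rw [e]
  show _ * (lift (h := h) 1).a = _
  rw [lift_a, mul_one]

/-- The norm-one torus fixes a second point. -/
theorem exists_w_fix : ∃ P : H.Pt, P ≠ H.base ∧ ∀ c, H.w c • P = P := by
  obtain ⟨P, hP⟩ := H.exists_ne_base
  obtain ⟨c0, hc0⟩ := exists_mu_ne_one h
  have hc0' : ((c0 : Fˣ) : F) ≠ 1 := mu_val_ne_one hc0
  -- the element of the pair stabilizer with the scalar of `c0`
  have hlift : ∀ c : ↥(mu h), ∃ s : h.UQ, H.ι s * H.w c ∈ H.D P := by
    intro c
    obtain ⟨d, hd, hdl⟩ := H.exists_D hP (c : Fˣ)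
    have hl : H.el (d * ⟨H.w c, H.w_mem_N c⟩⁻¹) = 1 := by
      rw [← H.elHom_val, map_mul, map_inv, hdl]
      have : H.elHom ⟨H.w c, H.w_mem_N c⟩ = (c : Fˣ) := Units.ext (H.el_w c)
      rw [this, mul_inv_cancel, Units.val_one]
    obtain ⟨s, hs⟩ := (H.el_eq_one_iff _).1 hl
    exact ⟨s, by rw [hs]; simpa using hd⟩
  obtain ⟨s, hs⟩ := hlift c0
  obtain ⟨t, ht⟩ := QField.UQ.exists_mk (h := h) (s.a / (1 + ((c0 : Fˣ) : F)))
  set z := (t⁻¹ * twist c0 t)⁻¹ * s with hz
  have h1c : (1 + ((c0 : Fˣ) : F)) ≠ 0 := fun e => hc0' (by linear_combination e - h.two)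
  have hza : z.a = 0 := by
    show t.a + ((c0 : Fˣ) : F) * t.a + s.a = 0
    rw [ht]
    field_simp
    linear_combination s.a * h.two
  set P' := H.ι t • P with hP'
  have hP'ne : P' ≠ H.base := H.ι_smul_ne hP t
  have hconj : H.ι s * H.w c0 = (H.ι t)⁻¹ * H.w c0 * H.ι t * H.ι z := by
    have hs' : s = t⁻¹ * twist c0 t * z := by rw [hz, mul_inv_cancel_left]
    clear_value z
    clear hz
    have hwz : H.w c0 * H.ι z = H.ι z * H.w c0 := by rw [H.w_mul_ι, twist_central c0 hza]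
    have hwz' : (H.ι t)⁻¹ * H.w c0 * H.ι t * H.ι z = (H.ι t)⁻¹ * H.w c0 * H.ι z * H.ι t := by
      rw [mul_assoc, mul_assoc _ (H.ι z), ← map_mul, ← map_mul, central_mul_comm hza]
    rw [hwz', mul_assoc _ (H.w c0), hwz, mul_assoc, mul_assoc, H.w_mul_ι, hs', map_mul, map_mul, map_inv]
    rw [mul_assoc, mul_assoc, ← mul_assoc (H.ι z), ← map_mul, central_mul_comm hza, map_mul, mul_assoc]
  have hzd : ((H.ι t)⁻¹ * H.w c0 * H.ι t) ^ (h.q + 1) = 1 := by
    have := conj_pow (a := (H.ι t)⁻¹) (b := H.w c0) (i := h.q + 1)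
    rw [inv_inv] at this
    rw [this, ← map_pow, mu_pow, map_one, mul_one, inv_mul_cancel]
  have hcom : Commute ((H.ι t)⁻¹ * H.w c0 * H.ι t) (H.ι z) := by
    have h1 : Commute (H.w c0) (H.ι z) := by
      show _ = _
      rw [H.w_mul_ι, twist_central c0 hza]
    have h2 : Commute (H.ι t) (H.ι z) := (Commute.map (central_mul_comm hza t).symm H.ι)
    exact ((h2.inv_left).mul_left h1).mul_left h2
  have hz1 : H.ι z = 1 := by
    have hc : H.ι s * H.w c0 ∈ H.C := H.mem_C.2 ⟨s, c0, rfl⟩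
    have h1 := (H.D_C hP hs).1 hc
    rw [hconj, hcom.mul_pow, hzd, one_mul] at h1
    refine eq_one_of_pow_two_pow (k := 1) odd_q_add_one ?_ h1
    rw [pow_one, pow_two, ← map_mul, QField.UQ.sq_of_center hza, map_one]
  rw [hz1, mul_one] at hconj
  have hfix0 : H.w c0 • P' = P' := by
    have h2 : (H.ι s * H.w c0) • P = P := hs.2
    rw [hconj, mul_smul, mul_smul, inv_smul_eq_iff] at h2
    exact h2
  refine ⟨P', hP'ne, fun c => ?_⟩
  -- the other elements: the same second point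
  obtain ⟨d, hd, hdl⟩ := H.exists_D hP'ne (c : Fˣ)
  have hl : H.el (d * ⟨H.w c, H.w_mem_N c⟩⁻¹) = 1 := by
    rw [← H.elHom_val, map_mul, map_inv, hdl]
    have : H.elHom ⟨H.w c, H.w_mem_N c⟩ = (c : Fˣ) := Units.ext (H.el_w c)
    rw [this, mul_inv_cancel, Units.val_one]
  obtain ⟨r, hr⟩ := (H.el_eq_one_iff _).1 hl
  have hrd : H.ι r * H.w c = (d : G) := by rw [hr]; simp
  have hD0 : H.w c0 ∈ H.D P' := ⟨H.fix_base.2 (H.w_mem_N c0), hfix0⟩
  have hD : H.ι r * H.w c ∈ H.D P' := hrd ▸ hd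
  have hcm := H.D_comm hP'ne hD0 hD
  have hwc : H.w c0 * H.w c = H.w c * H.w c0 := by rw [← map_mul, ← map_mul, mul_comm]
  have htw : twist c0 r = r := by
    refine H.ι_inj (mul_right_cancel (b := H.w c * H.w c0) ?_)
    rw [← mul_assoc _ (H.w c), ← mul_assoc _ (H.w c), mul_assoc _ (H.w c) (H.w c0), ← hwc, ← mul_assoc,
      ← H.w_mul_ι, mul_assoc]
    exact hcm
  have hra := twist_one_eq hc0 htw
  have hrc : Commute (H.ι r) (H.w c) := by
    show _ = _
    rw [H.w_mul_ι, twist_central c hra]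
  have h1 := (H.D_C hP'ne hD).1 (H.mem_C.2 ⟨r, c, rfl⟩)
  rw [hrc.mul_pow, ← map_pow H.w, mu_pow, map_one, mul_one] at h1
  have hr1 : H.ι r = 1 := eq_one_of_pow_two_pow (k := 1) odd_q_add_one
    (by rw [pow_one, pow_two, ← map_mul, QField.UQ.sq_of_center hra, map_one]) h1
  rw [hr1, one_mul] at hrd
  rw [hrd]
  exact hd.2

end Hypo

/-- A choice of origin. -/
structure Frame (H : Hypo h G) where
  /-- the origin -/
  P : H.Pt
  ne : P ≠ H.base
  w_fix : ∀ c, H.w c • P = P

namespace Frame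

variable {H : Hypo h G} (K : Frame H)
include K

/-- The points in coordinates. -/
def pt : Option h.UQ → H.Pt
  | none => H.base
  | some x => H.ι x • K.P

theorem pt_surj : Function.Surjective K.pt := fun R => by
  by_cases hR : R = H.base
  · exact ⟨none, hR.symm⟩
  · obtain ⟨x, hx⟩ := H.regular K.ne hR
    exact ⟨some x, hx⟩

theorem pt_inj : Function.Injective K.pt := by
  rintro (_ | x) (_ | y) e
  · rfl
  · exact absurd e.symm (H.ι_smul_ne K.ne y)
  · exact absurd e (H.ι_smul_ne K.ne x)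
  · exact congrArg some (H.ι_smul_inj K.ne e)

theorem pt_one : K.pt (some 1) = K.P := by simp [pt]

theorem ι_smul_pt (x y : h.UQ) : H.ι x • K.pt (some y) = K.pt (some (x * y)) := by
  simp [pt, map_mul, mul_smul]

theorem S_smul_base {g : G} (hg : g ∈ H.N) : g • H.base = H.base := H.fix_base.2 hg

theorem w_smul_pt (c : ↥(mu h)) (x : h.UQ) : H.w c • K.pt (some x) = K.pt (some (twist c x)) := by
  show H.w c • H.ι x • K.P = H.ι (twist c x) • K.P
  rw [← mul_smul, H.w_mul_ι, mul_smul, K.w_fix]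

theorem w_mem_D (c : ↥(mu h)) : H.w c ∈ H.D K.P := ⟨H.fix_base.2 (H.w_mem_N c), K.w_fix c⟩

theorem D_inj {d e : H.N} (hd : (d : G) ∈ H.D K.P) (he : (e : G) ∈ H.D K.P) (hl : H.el d = H.el e) :
    d = e := by
  have h1 : H.el (d * e⁻¹) = 1 := by
    rw [← H.elHom_val, map_mul, map_inv, show H.elHom d = H.elHom e from Units.ext hl, mul_inv_cancel,
      Units.val_one]
  exact mul_inv_eq_one.1 (Subtype.ext
    (H.D_S K.ne (mul_mem hd (inv_mem he)) ((H.el_eq_one_iff _).1 h1)))

/-- The torus. -/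
noncomputable def tor (l : Fˣ) : H.N := (H.exists_D K.ne l).choose

theorem tor_mem (l : Fˣ) : (K.tor l : G) ∈ H.D K.P := (H.exists_D K.ne l).choose_spec.1

theorem tor_el (l : Fˣ) : H.el (K.tor l) = l := by
  rw [← H.elHom_val]
  exact congrArg Units.val (H.exists_D K.ne l).choose_spec.2

theorem act_tor (l : Fˣ) (x : h.UQ) : H.act (K.tor l) x = theta l x := by
  -- the difference is central and invariant under the norm-one torus
  let z : h.UQ → h.UQ := fun y => (theta l y)⁻¹ * H.act (K.tor l) y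
  have hza : ∀ y, (z y).a = 0 := fun y => by
    show (l : F) * y.a + (H.act (K.tor l) y).a = 0
    rw [H.act_a, H.linear, K.tor_el, h.self_add]
  have hzmul : ∀ y y', z (y * y') = z y * z y' := fun y y' => by
    show (theta l (y * y'))⁻¹ * H.act (K.tor l) (y * y') = _
    rw [theta_mul, H.act_mul, mul_inv_rev, mul_assoc, ← mul_assoc _ (H.act (K.tor l) y)]
    show _ * (z y * _) = z y * z y'
    rw [← mul_assoc, ← central_mul_comm (hza y), mul_assoc]
  have hztw : ∀ c y, z (twist c y) = z y := fun c y => by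
    have e : H.act (K.tor l) (twist c y) = twist c (H.act (K.tor l) y) := by
      apply H.ι_inj
      have hcm := H.D_comm K.ne (K.tor_mem l) (K.w_mem_D c)
      rw [H.act_spec, ← H.conj, ← H.conj, H.act_spec]
      calc (K.tor l : G) * (H.w c * H.ι y * (H.w c)⁻¹) * (K.tor l : G)⁻¹
          = ((K.tor l : G) * H.w c) * H.ι y * ((K.tor l : G) * H.w c)⁻¹ := by group
        _ = (H.w c * (K.tor l : G)) * H.ι y * (H.w c * (K.tor l : G))⁻¹ := by rw [hcm]
        _ = _ := by group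
    have hm : twist c (z y) = z (twist c y) := by
      apply H.ι_inj
      show H.ι (twist c ((theta l y)⁻¹ * H.act (K.tor l) y)) =
        H.ι ((theta l (twist c y))⁻¹ * H.act (K.tor l) (twist c y))
      rw [e, theta_twist, map_mul, map_inv, ← H.conj, ← H.conj, ← H.conj, map_mul, map_inv]
      group
    rw [← hm, twist_central c (hza y)]
  have hzc : ∀ y : h.UQ, y.a = 0 → z y = 1 := fun y hy => by
    refine inv_mul_eq_one.2 (QField.UQ.ext ?_ ?_)
    · show (l : F) * y.a = _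
      rw [hy, mul_zero, H.act_central _ hy]
    · show (l : F) * (l : F) ^ h.q * y.b = _
      rw [H.act_b _ hy, Hypo.lam, K.tor_el, H.sig_fixed _ (QField.UQ.b_fixed hy)]
  obtain ⟨c, hc⟩ := exists_mu_ne_one h
  have h1c : (1 + ((c : Fˣ) : F)) ≠ 0 := fun e => mu_val_ne_one hc (by linear_combination e - h.two)
  obtain ⟨t, ht⟩ := QField.UQ.exists_mk (h := h) (x.a / (1 + ((c : Fˣ) : F)))
  have hrest : ((t⁻¹ * twist c t)⁻¹ * x).a = 0 := by
    show t.a + ((c : Fˣ) : F) * t.a + x.a = 0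
    rw [ht]
    field_simp
    linear_combination x.a * h.two
  have hz1 : z (t⁻¹ * twist c t) = 1 := by
    have hz0 : z 1 = 1 := hzc 1 rfl
    rw [hzmul, hztw, ← hzmul, inv_mul_cancel, hz0]
  have hzx : z x = 1 := by
    rw [← mul_inv_cancel_left (t⁻¹ * twist c t) x, hzmul, hz1, hzc _ hrest, one_mul]
  exact (inv_mul_eq_one.1 hzx).symm

theorem tor_smul_pt (l : Fˣ) (x : h.UQ) : (K.tor l : G) • K.pt (some x) = K.pt (some (theta l x)) := by
  show (K.tor l : G) • H.ι x • K.P = H.ι (theta l x) • K.P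
  rw [← K.act_tor, H.act_spec, mul_smul, mul_smul, inv_smul_eq_iff.2 (show (K.tor l : G) • K.P = K.P from
    (K.tor_mem l).2).symm]

theorem exists_pair {Q R : H.Pt} (hne : Q ≠ R) : ∃ k : G, k • H.base = Q ∧ k • K.P = R := by
  obtain ⟨g, hg⟩ := H.exists_move Q
  have hR : g⁻¹ • R ≠ H.base := fun e => hne (by rw [← hg, ← e, smul_inv_smul])
  obtain ⟨x, hx⟩ := H.regular K.ne hR
  refine ⟨g * H.ι x, ?_, ?_⟩
  · rw [mul_smul, K.S_smul_base (H.S_le_N (H.mem_S_of x)), hg]
  · rw [mul_smul, hx, smul_inv_smul]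

/-- The block through the base point and the origin, moved by `g`. -/
def Blk (_K : Frame H) (g : G) (R : H.Pt) : Prop := ∀ c, H.w c • (g⁻¹ • R) = g⁻¹ • R

theorem blk_one_pt (x : h.UQ) : K.Blk 1 (K.pt (some x)) ↔ x.a = 0 := by
  constructor
  · intro hx
    obtain ⟨c, hc⟩ := exists_mu_ne_one h
    have := hx c
    rw [inv_one, one_smul, K.w_smul_pt] at this
    exact twist_one_eq hc (Option.some_injective _ (K.pt_inj this))
  · intro hx c
    rw [inv_one, one_smul, K.w_smul_pt, twist_central c hx]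

theorem blk_one_base : K.Blk 1 H.base := fun c => by
  rw [inv_one, one_smul, K.S_smul_base (H.w_mem_N c)]

theorem blk_one_origin : K.Blk 1 K.P := by
  have := (K.blk_one_pt 1).2 rfl
  rwa [K.pt_one] at this

theorem blk_smul (k g : G) (R : H.Pt) : K.Blk (k * g) (k • R) ↔ K.Blk g R := by
  unfold Blk
  rw [mul_inv_rev, mul_smul g⁻¹, inv_smul_smul]

/-- A nontrivial element fixing the pair and a third point is in the norm-one torus. -/
theorem fix_three {g : G} (hg : g ∈ H.D K.P) {x : h.UQ} (hx : x ≠ 1) (hgx : g • K.pt (some x) = K.pt (some x))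
    (hg1 : g ≠ 1) : ∃ c, c ≠ 1 ∧ g = H.w c := by
  let d : H.N := ⟨g, H.D_le_N hg⟩
  let l : Fˣ := H.elHom d
  have hd : K.tor l = d := K.D_inj (K.tor_mem l) hg (K.tor_el l)
  have e : theta l x = x := by
    have := K.tor_smul_pt l x
    rw [hd] at this
    exact (Option.some_injective _ (K.pt_inj (this.symm.trans hgx)))
  have hl1 : l ≠ 1 := by
    intro e1
    refine hg1 ?_
    have : d = 1 := K.D_inj hg (one_mem _) (by
      rw [← H.elHom_val, show H.elHom d = 1 from e1, ← H.elHom_val, map_one])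
    exact congrArg Subtype.val this
  have ha : x.a = 0 := by
    have e' : (l : F) * x.a = x.a := congrArg QField.UQ.a e
    have : ((l : F) - 1) * x.a = 0 := by linear_combination e'
    exact (mul_eq_zero.1 this).resolve_left (sub_ne_zero.2 fun e'' => hl1 (Units.ext e''))
  have hb : x.b ≠ 0 := fun e' => hx (QField.UQ.ext ha e')
  have hmu : l ∈ mu h := by
    refine Units.ext ?_
    have e' : (l : F) * (l : F) ^ h.q * x.b = x.b := congrArg QField.UQ.b e
    rw [Units.val_pow_eq_pow_val, pow_succ', Units.val_one]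
    exact (mul_eq_right₀ hb).1 e'
  refine ⟨⟨l, hmu⟩, fun e1 => hl1 (congrArg Subtype.val e1), ?_⟩
  exact congrArg Subtype.val (K.D_inj (d := d) (e := ⟨H.w ⟨l, hmu⟩, H.w_mem_N _⟩) hg (K.w_mem_D _)
    (by rw [H.el_w]; rfl))

theorem w_fix_blk {c : ↥(mu h)} (hc : c ≠ 1) {R : H.Pt} (hR : H.w c • R = R) : K.Blk 1 R := by
  obtain ⟨o, rfl⟩ := K.pt_surj R
  cases o with
  | none => exact K.blk_one_base
  | some x =>
    rw [K.w_smul_pt] at hR
    exact (K.blk_one_pt x).2 (twist_one_eq hc (Option.some_injective _ (K.pt_inj hR)))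

/-- A block through the base point and the origin is the standard one. -/
theorem blk_origin {g : G} (hb : K.Blk g H.base) (hP : K.Blk g K.P) (R : H.Pt) :
    K.Blk g R ↔ K.Blk 1 R := by
  obtain ⟨c, hc⟩ := exists_mu_ne_one h
  have hfix : ∀ R, K.Blk g R → (g * H.w c * g⁻¹) • R = R := fun R hR => by
    rw [mul_smul, mul_smul, hR c, smul_inv_smul]
  have hD : g * H.w c * g⁻¹ ∈ H.D K.P := ⟨hfix _ hb, hfix _ hP⟩
  have hC : g * H.w c * g⁻¹ ∈ H.C := (H.D_C K.ne hD).2 (by
    rw [conj_pow, ← map_pow, Hypo.mu_pow, map_one, mul_one, mul_inv_cancel])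
  obtain ⟨x, c', hxc⟩ := H.mem_C.1 hC
  have hx : x = 1 := by
    refine H.ι_inj ((H.D_S K.ne ?_ (H.mem_S_of x)).trans (map_one _).symm)
    rw [show H.ι x = g * H.w c * g⁻¹ * (H.w c')⁻¹ by rw [hxc, mul_inv_cancel_right]]
    exact mul_mem hD (inv_mem (K.w_mem_D c'))
  subst hx
  rw [map_one, one_mul] at hxc
  have hc' : c' ≠ 1 := by
    rintro rfl
    rw [map_one, conj_eq_one_iff] at hxc
    exact hc (H.w_inj (hxc.trans (map_one _).symm))
  constructor
  · exact fun hR => K.w_fix_blk hc' (hxc ▸ hfix R hR)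
  · intro hR d
    have h1 : H.w c • (g⁻¹ • R) = g⁻¹ • R := by
      have := hR c'
      rw [inv_one, one_smul, ← hxc, mul_smul, mul_smul] at this
      exact (eq_inv_smul_iff).2 this
    have := K.w_fix_blk hc h1 d
    rwa [inv_one, one_smul] at this

/-- Two points lie in one block. -/
theorem blk_unique {g g' : G} {Q R : H.Pt} (hne : Q ≠ R) (hQ : K.Blk g Q) (hR : K.Blk g R)
    (hQ' : K.Blk g' Q) (hR' : K.Blk g' R) {T : H.Pt} (hT : K.Blk g T) : K.Blk g' T := by
  obtain ⟨k, hkQ, hkR⟩ := K.exists_pair hne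
  have key : ∀ g, K.Blk g Q → K.Blk g R → ∀ T, K.Blk g T ↔ K.Blk 1 (k⁻¹ • T) := by
    intro g hQ hR T
    rw [← K.blk_origin (g := k⁻¹ * g) (by rw [← K.blk_smul k, mul_inv_cancel_left, hkQ]; exact hQ)
      (by rw [← K.blk_smul k, mul_inv_cancel_left, hkR]; exact hR), K.blk_smul]
  exact (key g' hQ' hR' T).2 ((key g hQ hR T).1 hT)

end Frame

end CfsgLib.Recog.EvenUnitary
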