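import Mathlib
import Cfsg.Agent.Lib.Chev.PSUThreeSylow

/-!
The data of an involution centralizer of `PGU(3,q)`, `q` even: the unitary 2-group extended by a cyclic
group of order `q + 1` scaling the first coordinate (S2212).
-/

set_option autoImplicit false

namespace CfsgLib.Recog.EvenUnitary

open CfsgLib.Chev.PSUSyl

universe u v

variable {F : Type v} [Field F] [Fintype F] {h : QField F}

theorem q_ne_zero : h.q ≠ 0 := pow_ne_zero _ two_ne_zero

theorem one_lt_q : 1 < h.q := lt_of_lt_of_le (by norm_num) h.four_le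

variable (h) in
/-- The elements of norm one. -/
def mu : Subgroup Fˣ where
  carrier := {c | c ^ (h.q + 1) = 1}
  one_mem' := one_pow _
  mul_mem' := fun {a b} ha hb => by
    show (a * b) ^ (h.q + 1) = 1
    rw [mul_pow, show a ^ (h.q + 1) = 1 from ha, show b ^ (h.q + 1) = 1 from hb, one_mul]
  inv_mem' := fun {a} ha => by
    show a⁻¹ ^ (h.q + 1) = 1
    rw [inv_pow, show a ^ (h.q + 1) = 1 from ha, inv_one]

theorem mu_norm (c : ↥(mu h)) : ((c : Fˣ) : F) * ((c : Fˣ) : F) ^ h.q = 1 := by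
  rw [← pow_succ', ← Units.val_pow_eq_pow_val, show (c : Fˣ) ^ (h.q + 1) = 1 from c.2, Units.val_one]

theorem card_mu : Nat.card (mu h) = h.q + 1 := by
  classical
  obtain ⟨g, hg⟩ := IsCyclic.exists_generator (α := Fˣ)
  have hord : orderOf g = (h.q - 1) * (h.q + 1) := by
    rw [orderOf_eq_card_of_forall_mem_zpowers hg, Nat.card_units, Nat.card_eq_fintype_card, h.card,
      mul_comm, ← Nat.sq_sub_sq, one_pow]
  have hq := one_lt_q (h := h)
  have e : mu h = Subgroup.zpowers (g ^ (h.q - 1)) := by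
    ext c
    constructor
    · intro hc
      obtain ⟨k, hk⟩ := Subgroup.mem_zpowers_iff.1 (hg c)
      have h1 : g ^ (k * ((h.q + 1 : ℕ) : ℤ)) = 1 := by
        rw [zpow_mul, hk, zpow_natCast]; exact hc
      have h2 : ((orderOf g : ℕ) : ℤ) ∣ k * ((h.q + 1 : ℕ) : ℤ) := orderOf_dvd_iff_zpow_eq_one.2 h1
      rw [hord, Nat.cast_mul] at h2
      obtain ⟨j, hj⟩ := Int.dvd_of_mul_dvd_mul_right (by positivity) h2
      exact ⟨j, by simp only []; rw [← zpow_natCast, ← zpow_mul, ← hj, hk]⟩
    · intro hc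
      refine Subgroup.zpowers_le.2 ?_ hc
      show (g ^ (h.q - 1)) ^ (h.q + 1) = 1
      rw [← pow_mul, ← hord, pow_orderOf_eq_one]
  rw [e, Nat.card_zpowers, orderOf_pow' _ (by omega : h.q - 1 ≠ 0), hord,
    Nat.gcd_eq_right (dvd_mul_right _ _), Nat.mul_div_cancel_left _ (by omega)]

/-- The scaling of the first coordinate. -/
def twist (c : ↥(mu h)) (x : h.UQ) : h.UQ :=
  ⟨((c : Fˣ) : F) * x.a, x.b, by
    rw [mul_pow]
    linear_combination x.ok + (x.a * x.a ^ h.q) * mu_norm c⟩

/-- The central involution `(0, 1)`. -/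
def zOne (h : QField F) : h.UQ :=
  ⟨0, 1, by rw [one_pow, zero_mul, add_zero, h.self_add]⟩

/-- An involution centralizer of the type of `PGU(3,q)`. -/
structure Cent (h : QField F) (G : Type u) [Group G] where
  /-- the 2-part -/
  ι : h.UQ →* G
  /-- the torus -/
  w : ↥(mu h) →* G
  ι_inj : Function.Injective ι
  w_inj : Function.Injective w
  disj : ∀ x c, ι x = w c → x = 1
  conj : ∀ c x, w c * ι x * (w c)⁻¹ = ι (twist c x)
  cent : ∀ g, g * ι (zOne h) = ι (zOne h) * g ↔ ∃ x c, g = ι x * w c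

end CfsgLib.Recog.EvenUnitary
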