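import Cfsg.Agent.Lib.Recog.EvenUnitary.Defs

/-!
An abelian regular family of semilinear maps on the fixed field of `x ↦ x^q` is linear (S2212).
-/

set_option autoImplicit false
set_option linter.unusedSectionVars false
set_option linter.style.haveILetI false

namespace CfsgLib.Recog.EvenUnitary

open CfsgLib.Chev.PSUSyl

universe v w

variable {F : Type v} [Field F] [Fintype F] {h : QField F}

theorem charP_two (h : QField F) : CharP F 2 :=
  CharTwo.of_one_ne_zero_of_two_eq_zero one_ne_zero h.two

variable (h) in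
/-- The fixed field of `x ↦ x^q`. -/
def fixedSub : Subfield F where
  carrier := {x | x ^ h.q = x}
  one_mem' := one_pow _
  mul_mem' := fun {a b} ha hb => by
    show (a * b) ^ h.q = a * b
    rw [mul_pow, show a ^ h.q = a from ha, show b ^ h.q = b from hb]
  zero_mem' := zero_pow q_ne_zero
  add_mem' := fun {a b} ha hb => by
    show (a + b) ^ h.q = a + b
    rw [h.add_pow', show a ^ h.q = a from ha, show b ^ h.q = b from hb]
  neg_mem' := fun {a} ha => by
    show (-a) ^ h.q = -a
    rw [h.neg_eq]; exact ha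
  inv_mem' := fun a ha => by
    show a⁻¹ ^ h.q = a⁻¹
    rw [inv_pow, show a ^ h.q = a from ha]

theorem mem_fixedSub {x : F} : x ∈ fixedSub h ↔ x ^ h.q = x := Iff.rfl

theorem card_fixedSub : Nat.card (fixedSub h) = h.q := h.card_fixed

/-- A set of `F` closed under sums and products, containing zero and the norm-one elements, is everything. -/
theorem eq_univ_of_mu {T : Set F} (h0 : (0 : F) ∈ T) (hadd : ∀ a ∈ T, ∀ b ∈ T, a + b ∈ T)
    (hmul : ∀ a ∈ T, ∀ b ∈ T, a * b ∈ T) (hmu : ∀ c : ↥(mu h), ((c : Fˣ) : F) ∈ T) (x : F) : x ∈ T := by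
  classical
  haveI := charP_two h
  let R : Subring F :=
    { carrier := T
      one_mem' := hmu 1
      mul_mem' := fun {a b} ha hb => hmul a ha b hb
      zero_mem' := h0
      add_mem' := fun {a b} ha hb => hadd a ha b hb
      neg_mem' := fun {a} ha => by rw [h.neg_eq]; exact ha }
  haveI : Fintype R := Fintype.ofFinite R
  letI : Field R := Fintype.fieldOfDomain R
  have hk : Fintype.card F = Fintype.card R ^ Module.finrank R F := Module.card_eq_pow_finrank
  have hgt : h.q < Fintype.card R := by
    have hle : Nat.card (Option (mu h)) ≤ Nat.card R := by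
      refine Nat.card_le_card_of_injective
        (fun o => match o with | none => (⟨0, h0⟩ : R) | some c => ⟨_, hmu c⟩) ?_
      rintro (_ | c) (_ | d) e
      · rfl
      · exact absurd (congrArg Subtype.val e).symm (d : Fˣ).ne_zero
      · exact absurd (congrArg Subtype.val e) (c : Fˣ).ne_zero
      · exact congrArg some (Subtype.ext (Units.ext (congrArg Subtype.val e)))
    rw [Finite.card_option, card_mu, Nat.card_eq_fintype_card] at hle
    omega
  have hk1 : Module.finrank R F = 1 := by
    have hpos : 0 < Module.finrank R F := Module.finrank_pos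
    by_contra hne
    have h2 : Fintype.card R ^ 2 ≤ Fintype.card F := by
      rw [hk]; exact Nat.pow_le_pow_right Fintype.card_pos (by omega)
    rw [h.card] at h2
    exact absurd hgt (not_lt.2 (le_of_pow_le_pow_left₀ two_ne_zero (Nat.zero_le _) h2))
  rw [hk1, pow_one] at hk
  have hsurj : Function.Bijective (Subtype.val : R → F) :=
    (Fintype.bijective_iff_injective_and_card _).2 ⟨Subtype.val_injective, hk.symm⟩
  obtain ⟨r, hr⟩ := hsurj.2 x
  rw [← hr]
  exact r.2

theorem two_pow_gt {n : ℕ} (hn : 2 ≤ n) : n * n + 2 ≤ 2 ^ n + 2 * n := by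
  induction n, hn using Nat.le_induction with
  | base => simp
  | succ k hk ih =>
    rw [pow_succ]
    rcases Nat.lt_or_ge k 3 with h3 | h3
    · obtain rfl : k = 2 := by omega
      norm_num
    · nlinarith

/-- An abelian family of semilinear maps, simply transitive on the nonzero fixed elements, is linear. -/
theorem semilinear_trivial {ι : Type w} [Finite ι] (lam : ι → F) (σ : ι → F →+* F)
    (hlam : ∀ g, lam g ^ h.q = lam g ∧ lam g ≠ 0)
    (hsurj : ∀ t : F, t ^ h.q = t → t ≠ 0 → ∃ g, lam g = t)
    (hdiv : ∀ g k, lam g = lam k → ∀ b : F, b ^ h.q = b → σ g b = σ k b)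
    (habel : ∀ g k, lam g * σ g (lam k) = lam k * σ k (lam g))
    (g : ι) {b : F} (hb : b ^ h.q = b) : σ g b = b := by
  classical
  by_contra hne
  haveI := charP_two h
  haveI : CharP (fixedSub h) 2 := inferInstance
  letI : Algebra (ZMod 2) (fixedSub h) := ZMod.algebra _ 2
  let K := fixedSub h
  haveI : Fintype K := Fintype.ofFinite K
  -- the restrictions
  have hK : ∀ k, ∀ x : K, σ k x.1 ∈ fixedSub h := fun k x => by
    show σ k x.1 ^ h.q = σ k x.1
    rw [← map_pow, show x.1 ^ h.q = x.1 from x.2]
  let res : ι → (K →ₐ[ZMod 2] K) := fun k =>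
    { ((σ k).comp K.subtype).codRestrict K.toSubring (hK k) with
      commutes' := fun r => RingHom.congr_fun
        (RingHom.ext_zmod ((((σ k).comp K.subtype).codRestrict K.toSubring (hK k)).comp
          (algebraMap (ZMod 2) K)) (algebraMap (ZMod 2) K)) r }
  have hres : ∀ k (x : K), ((res k x : K) : F) = σ k x.1 := fun _ _ => rfl
  have hm : Module.finrank (ZMod 2) K = h.n := by
    have e := Module.card_eq_pow_finrank (K := ZMod 2) (V := K)
    rw [ZMod.card, ← Nat.card_eq_fintype_card, card_fixedSub] at e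
    exact (Nat.pow_right_injective le_rfl e).symm
  have hcard : Fintype.card (K →ₐ[ZMod 2] K) ≤ h.n := hm ▸ AlgHom.card_le
  -- the fixed field of the given map
  let Fix : Subfield K :=
    { carrier := {x | σ g x.1 = x.1}
      one_mem' := map_one _
      mul_mem' := fun {a b} ha hb => by
        show σ g (a.1 * b.1) = a.1 * b.1
        rw [map_mul, show σ g a.1 = a.1 from ha, show σ g b.1 = b.1 from hb]
      zero_mem' := map_zero _
      add_mem' := fun {a b} ha hb => by
        show σ g (a.1 + b.1) = a.1 + b.1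
        rw [map_add, show σ g a.1 = a.1 from ha, show σ g b.1 = b.1 from hb]
      neg_mem' := fun {a} ha => by
        show σ g (-a.1) = -a.1
        rw [map_neg, show σ g a.1 = a.1 from ha]
      inv_mem' := fun a ha => by
        show σ g (a⁻¹ : K).1 = (a⁻¹ : K).1
        push_cast
        rw [map_inv₀, show σ g a.1 = a.1 from ha] }
  haveI : Fintype Fix := Fintype.ofFinite Fix
  -- every fibre of the restriction has at most `|Fix| - 1` values of `lam`
  let T : Type v := {t : K // t ≠ 0}
  choose gt hgt using fun t : T => hsurj t.1.1 t.1.2 (fun e => t.2 (Subtype.ext e))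
  have hfib : ∀ r : K →ₐ[ZMod 2] K,
      Nat.card {t : T // res (gt t) = r} ≤ Nat.card {x : Fix // x ≠ 0} := by
    intro r
    rcases isEmpty_or_nonempty {t : T // res (gt t) = r} with he | ⟨⟨t0, ht0⟩⟩
    · simp
    have hv : ∀ t : {t : T // res (gt t) = r}, ∀ k, σ k (t.1.1.1 / t0.1.1) = t.1.1.1 / t0.1.1 := by
      intro t k
      have hs : ∀ x : F, x ^ h.q = x → σ (gt t.1) x = σ (gt t0) x := by
        intro x hx
        rw [← hres (gt t.1) ⟨x, hx⟩, ← hres (gt t0) ⟨x, hx⟩, t.2, ht0]
      have e1 := habel (gt t.1) k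
      have e0 := habel (gt t0) k
      rw [hgt, hs _ (hlam k).1] at e1
      rw [hgt] at e0
      have hl : lam k ≠ 0 := (hlam k).2
      have ht : (t0.1.1 : F) ≠ 0 := fun e => t0.2 (Subtype.ext e)
      have hst : σ k t0.1.1 ≠ 0 := (map_ne_zero _).2 ht
      rw [map_div₀, div_eq_div_iff hst ht]
      refine mul_left_cancel₀ hl ?_
      linear_combination (t.1.1.1) * e0 - (t0.1.1 : F) * e1
    refine Nat.card_le_card_of_injective (fun t => ⟨⟨⟨t.1.1.1 / t0.1.1, ?_⟩, hv t g⟩, ?_⟩) ?_
    · show (t.1.1.1 / t0.1.1 : F) ^ h.q = _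
      rw [div_pow, show (t.1.1.1 : F) ^ h.q = _ from t.1.1.2, show (t0.1.1 : F) ^ h.q = _ from t0.1.2]
    · intro e
      have e' : (t.1.1.1 / t0.1.1 : F) = 0 := congrArg (fun x : Fix => x.1.1) e
      rcases div_eq_zero_iff.1 e' with e'' | e''
      · exact t.1.2 (Subtype.ext e'')
      · exact t0.2 (Subtype.ext e'')
    · intro t t' e
      have e' : (t.1.1.1 / t0.1.1 : F) = t'.1.1.1 / t0.1.1 := congrArg (fun x : {x : Fix // x ≠ 0} => x.1.1.1) e
      exact Subtype.ext (Subtype.ext (Subtype.ext ((div_left_inj' fun e'' => t0.2 (Subtype.ext e'')).1 e')))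
  have hT : Nat.card T = h.q - 1 := by
    show Nat.card {t : K // t ≠ 0} = _
    rw [Nat.card_eq_fintype_card, Fintype.card_subtype_compl, Fintype.card_subtype_eq,
      ← Nat.card_eq_fintype_card, card_fixedSub]
  have hmain : Nat.card T ≤ h.n * Nat.card {x : Fix // x ≠ 0} := by
    rw [← Nat.card_congr (Equiv.sigmaFiberEquiv fun t : T => res (gt t)), Nat.card_sigma]
    refine le_trans (Finset.sum_le_card_nsmul _ _ _ fun r _ => hfib r) ?_
    rw [smul_eq_mul, Finset.card_univ]
    exact Nat.mul_le_mul_right _ hcard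
  -- the fixed field is proper
  have hd := Module.card_eq_pow_finrank (K := Fix) (V := K)
  set d := Module.finrank Fix K
  have hd2 : 2 ≤ d := by
    have hdpos : 0 < d := Module.finrank_pos
    by_contra hlt
    rw [show d = 1 by omega, pow_one] at hd
    obtain ⟨y, hy⟩ := ((Fintype.bijective_iff_injective_and_card (Subtype.val : Fix → K)).2
      ⟨Subtype.val_injective, hd.symm⟩).2 ⟨b, hb⟩
    exact hne (by rw [show b = y.1.1 from (congrArg Subtype.val hy).symm]; exact y.2)
  have hs : Fintype.card Fix * Fintype.card Fix ≤ h.q := by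
    rw [← card_fixedSub (h := h), Nat.card_eq_fintype_card, hd, ← pow_two]
    exact Nat.pow_le_pow_right Fintype.card_pos hd2
  rw [hT, Nat.card_eq_fintype_card (α := {x : Fix // x ≠ 0}), Fintype.card_subtype_compl,
    Fintype.card_subtype_eq] at hmain
  -- arithmetic
  have hs2 : 2 ≤ Fintype.card Fix := Fintype.one_lt_card
  set s := Fintype.card Fix
  have hn := h.two_le
  have hgt := two_pow_gt hn
  have hq : h.q = 2 ^ h.n := rfl
  obtain ⟨t, ht⟩ : ∃ t, s = t + 1 := ⟨s - 1, by omega⟩
  have hmain' : 2 ^ h.n ≤ h.n * t + 1 := by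
    rw [ht, Nat.add_sub_cancel] at hmain
    omega
  rw [ht, hq] at hs
  rcases Nat.lt_or_ge t (h.n - 1) with hlt | hge
  · have : h.n * (t + 2) ≤ h.n * h.n := Nat.mul_le_mul_left _ (by omega)
    nlinarith
  · have : (t + 1) * h.n ≤ (t + 1) * (t + 1) := Nat.mul_le_mul_left _ (by omega)
    nlinarith

end CfsgLib.Recog.EvenUnitary
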