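import Cfsg.Agent.Lib.Recog.EvenUnitary.Coords

/-!
The swapper of the origin and the base point is forced to be `(a, b) ↦ (a / b^q, 1 / b)`: the lines through
the origin are blocks, and blocks go to blocks (S2212).
-/

set_option autoImplicit false
set_option linter.unusedSectionVars false

namespace CfsgLib.Recog.EvenUnitary

open CfsgLib.Chev.PSUSyl Subgroup

universe u v

variable {F : Type v} [Field F] [Fintype F] {h : QField F} {G : Type u} [Group G] [Finite G]

theorem card_central (h : QField F) : Nat.card {z : h.UQ // z.a = 0} = h.q := by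
  rw [← QField.UQ.card_center (h := h)]
  exact Nat.card_congr (Equiv.subtypeEquivRight fun x => QField.UQ.mem_center_iff.symm)

theorem card_noncentral (h : QField F) : Nat.card {z : h.UQ // ¬ z.a = 0} + h.q = h.q ^ 3 := by
  classical
  haveI := Fintype.ofFinite h.UQ
  have := Fintype.card_subtype_compl (fun z : h.UQ => z.a = 0)
  rw [← Nat.card_eq_fintype_card, ← Nat.card_eq_fintype_card, ← Nat.card_eq_fintype_card, card_central,
    QField.UQ.card_eq] at this
  have hle : h.q ≤ h.q ^ 3 := Nat.le_self_pow three_ne_zero _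
  omega

theorem b_ne_zero {x : h.UQ} (hx : x ≠ 1) : x.b ≠ 0 := by
  intro e
  have ha : x.a * x.a ^ h.q = 0 := by
    have := x.ok
    rwa [e, zero_pow q_ne_zero, zero_add, zero_add] at this
  have ha' : x.a = 0 := by
    rcases mul_eq_zero.1 ha with e' | e'
    · exact e'
    · exact eq_zero_of_pow_eq_zero e'
  exact hx (QField.UQ.ext ha' e)

/-- The conjugate inverse of a unit. -/
def tau (h : QField F) (l : Fˣ) : Fˣ := (l ^ h.q)⁻¹

/-- A swapper fixing `(0, 1)`. -/
structure Swap {H : Hypo h G} (K : Frame H) where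
  /-- the swapper -/
  u : G
  mem : u ∈ H.Sw K.P
  one : u • K.pt (some (zOne h)) = K.pt (some (zOne h))

namespace Frame

variable {H : Hypo h G} (K : Frame H)
include K

theorem Sw_w {u : G} (hu : u ∈ H.Sw K.P) (c : ↥(mu h)) : u * H.w c = H.w c * u :=
  mul_inv_eq_iff_eq_mul.1 (H.Sw_fix_C K.ne hu (K.w_mem_D c) (H.w_mem_C c))

theorem exists_swap : Nonempty (Swap K) := by
  obtain ⟨u, hu⟩ := H.exists_swapper K.ne
  have hz1 : zOne h ≠ 1 := fun e => one_ne_zero (congrArg QField.UQ.b e)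
  have hfix : ∀ c, H.w c • (u • K.pt (some (zOne h))) = u • K.pt (some (zOne h)) := fun c => by
    rw [← mul_smul, ← K.Sw_w hu c, mul_smul, K.w_smul_pt, twist_central c rfl]
  obtain ⟨o, ho⟩ := K.pt_surj (u • K.pt (some (zOne h)))
  cases o with
  | none =>
    exfalso
    have : K.pt (some (zOne h)) = K.pt (some 1) := by
      rw [K.pt_one]
      refine smul_left_cancel u ?_
      rw [← ho, H.Sw_back hu]
      rfl
    exact hz1 (Option.some_injective _ (K.pt_inj this))
  | some r =>
    have hra : r.a = 0 := by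
      obtain ⟨c, hc⟩ := exists_mu_ne_one h
      have := hfix c
      rw [← ho, K.w_smul_pt] at this
      exact twist_one_eq hc (Option.some_injective _ (K.pt_inj this))
    have hr1 : r ≠ 1 := by
      rintro rfl
      rw [K.pt_one] at ho
      have e : K.pt (some (zOne h)) = H.base := by
        refine smul_left_cancel u ?_
        rw [← ho, hu.2]
      exact absurd (K.pt_inj (e.trans rfl : K.pt (some (zOne h)) = K.pt none)) (Option.some_ne_none _)
    have hrb : r.b ^ h.q = r.b := QField.UQ.b_fixed hra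
    have hrb0 := b_ne_zero hr1
    obtain ⟨k, hk, hkk⟩ := exists_sqrt_fixed h (b := r.b⁻¹) (by rw [inv_pow, hrb])
    have hk0 : k ≠ 0 := fun e => inv_ne_zero hrb0 (by rw [← hkk, e, zero_mul])
    set d := K.tor (Units.mk0 k hk0) with hd
    have hdq : (d : G) ^ (h.q - 1) = 1 := by
      have e : d ^ (h.q - 1) = 1 := by
        refine K.D_inj ?_ (one_mem _) ?_
        · show ((d ^ (h.q - 1) : H.N) : G) ∈ H.D K.P
          rw [SubmonoidClass.coe_pow]
          exact pow_mem (K.tor_mem _) _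
        · have h1 : H.el (1 : H.N) = 1 := (H.el_eq_one_iff 1).2 (one_mem _)
          rw [h1, ← H.elHom_val, map_pow, Units.val_pow_eq_pow_val, H.elHom_val, hd, K.tor_el,
            Units.val_mk0]
          refine mul_right_cancel₀ hk0 ?_
          rw [← pow_succ, show h.q - 1 + 1 = h.q by have := one_lt_q (h := h); omega, one_mul, hk]
      simpa using congrArg (Subtype.val : H.N → G) e
    have hinv := H.pow_inverted K.ne hu (K.tor_mem (Units.mk0 k hk0)) hdq
    rw [← hd] at hinv
    have hbase : ((d : G) * u) • H.base = K.P := by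
      rw [mul_smul, hu.2]; exact (K.tor_mem _).2
    refine ⟨⟨(d : G) * u, ⟨orderOf_eq_prime ?_ ?_, hbase⟩, ?_⟩⟩
    · rw [pow_two, mul_assoc]
      nth_rewrite 2 [show u = u⁻¹ from (inv_eq_self_of_orderOf hu.1).symm]
      rw [← mul_assoc u, hinv, mul_inv_cancel]
    · intro e
      rw [e, one_smul] at hbase
      exact K.ne hbase.symm
    · rw [mul_smul, ← ho, hd, K.tor_smul_pt]
      refine congrArg (fun x => K.pt (some x)) (QField.UQ.ext ?_ ?_)
      · show k * r.a = 0
        rw [hra, mul_zero]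
      · show k * k ^ h.q * r.b = 1
        rw [hk, hkk, inv_mul_cancel₀ hrb0]

end Frame

namespace Swap

variable {H : Hypo h G} {K : Frame H} (J : Swap K)
include J

theorem u_base : J.u • H.base = K.P := J.mem.2

theorem u_origin : J.u • K.P = H.base := H.Sw_back J.mem

theorem u_u (R : H.Pt) : J.u • J.u • R = R := by
  rw [← mul_smul, sq_eq_one_of_orderOf J.mem.1, one_smul]

theorem exists_T (x : h.UQ) (hx : x ≠ 1) : ∃ y, y ≠ 1 ∧ J.u • K.pt (some x) = K.pt (some y) := by
  obtain ⟨o, ho⟩ := K.pt_surj (J.u • K.pt (some x))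
  cases o with
  | none =>
    exfalso
    apply hx
    refine Option.some_injective _ (K.pt_inj (smul_left_cancel J.u ?_))
    rw [← ho, K.pt_one, J.u_origin]
    rfl
  | some y =>
    refine ⟨y, ?_, ho.symm⟩
    rintro rfl
    rw [K.pt_one, ← J.u_base] at ho
    exact absurd (K.pt_inj ((smul_left_cancel J.u ho).symm : K.pt (some x) = K.pt none))
      (Option.some_ne_none _)

/-- The permutation of the coordinates. -/
noncomputable def T (x : h.UQ) : h.UQ :=
  haveI := Classical.propDecidable (x = 1)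
  if hx : x = 1 then 1 else (J.exists_T x hx).choose

theorem T_spec {x : h.UQ} (hx : x ≠ 1) : J.u • K.pt (some x) = K.pt (some (J.T x)) := by
  rw [T, dif_neg hx]
  exact (J.exists_T x hx).choose_spec.2

theorem T_ne {x : h.UQ} (hx : x ≠ 1) : J.T x ≠ 1 := by
  rw [T, dif_neg hx]
  exact (J.exists_T x hx).choose_spec.1

theorem T_T {x : h.UQ} (hx : x ≠ 1) : J.T (J.T x) = x := by
  refine Option.some_injective _ (K.pt_inj ?_)
  rw [← J.T_spec (J.T_ne hx), ← J.T_spec hx, J.u_u]

theorem T_one : J.T (zOne h) = zOne h := by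
  refine Option.some_injective _ (K.pt_inj ?_)
  rw [← J.T_spec (x := zOne h) (fun e => one_ne_zero (congrArg QField.UQ.b e)), J.one]

theorem u_tor (l : Fˣ) : J.u * (K.tor l : G) * J.u⁻¹ = (K.tor (tau h l) : G) := by
  have hd := K.tor_mem l
  have he := H.Sw_conj_D J.mem hd
  set d := (K.tor l : G) with hdef
  set e := J.u * d * J.u⁻¹ with hedef
  have h1 : e ^ (h.q + 1) = (d ^ (h.q + 1))⁻¹ := by
    rw [hedef, conj_pow]
    refine H.pow_inverted K.ne J.mem (pow_mem hd _) ?_
    rw [← pow_mul, mul_comm, show (h.q - 1) * (h.q + 1) = h.q ^ 2 - 1 by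
      rw [mul_comm, ← Nat.sq_sub_sq, one_pow]]
    exact H.D_pow K.ne hd
  have h2 : e ^ (h.q - 1) = d ^ (h.q - 1) := by
    rw [hedef, conj_pow]
    exact H.Sw_fix_C K.ne J.mem (pow_mem hd _) (H.pow_mem_C (H.D_le_N hd))
  -- so `e ^ 2 = d ^ (-2 q)`
  have hone : e * d ^ h.q = 1 := by
    have hq := one_lt_q (h := h)
    have hc : Commute e (d ^ h.q) := H.D_comm K.ne he (pow_mem hd _)
    have hsq : (e * d ^ h.q) ^ 2 = 1 := by
      have h3 : e ^ (h.q + 1) = e ^ (h.q - 1) * e ^ 2 := by rw [← pow_add]; congr 1; omega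
      rw [h1, h2] at h3
      rw [hc.mul_pow, ← pow_mul]
      have h4 : d ^ (h.q * 2) = d ^ (h.q + 1) * d ^ (h.q - 1) := by rw [← pow_add]; congr 1; omega
      have h5 : e ^ 2 = (d ^ (h.q - 1))⁻¹ * (d ^ (h.q + 1))⁻¹ := by rw [h3, inv_mul_cancel_left]
      rw [h5, h4]; group
    refine eq_one_of_pow_two_pow (k := 1) (Hypo.odd_sq_sub_one (h := h)) (by rw [pow_one]; exact hsq) ?_
    exact H.D_pow K.ne (mul_mem he (pow_mem hd _))
  have hN : (⟨e, H.D_le_N he⟩ : H.N) = K.tor (tau h l) := by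
    refine K.D_inj (d := ⟨e, H.D_le_N he⟩) he (K.tor_mem _) ?_
    have h6 : (⟨e, H.D_le_N he⟩ : H.N) * (K.tor l) ^ h.q = 1 := Subtype.ext (by
      rw [Subgroup.coe_mul, SubmonoidClass.coe_pow, ← hdef]; exact hone)
    have h7 := congrArg H.elHom h6
    rw [map_mul, map_pow, map_one, show H.elHom (K.tor l) = l from Units.ext (K.tor_el l)] at h7
    rw [K.tor_el, ← H.elHom_val]
    exact congrArg Units.val (eq_inv_of_mul_eq_one_left h7)
  exact congrArg Subtype.val hN

theorem theta_ne {l : Fˣ} {x : h.UQ} (hx : x ≠ 1) : theta l x ≠ 1 := by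
  intro e
  refine b_ne_zero hx ?_
  have e' : (l : F) * (l : F) ^ h.q * x.b = 0 := congrArg QField.UQ.b e
  exact (mul_eq_zero.1 e').resolve_left (mul_ne_zero l.ne_zero (pow_ne_zero _ l.ne_zero))

theorem T_theta (l : Fˣ) {x : h.UQ} (hx : x ≠ 1) : J.T (theta l x) = theta (tau h l) (J.T x) := by
  refine Option.some_injective _ (K.pt_inj ?_)
  rw [← J.T_spec (J.theta_ne hx), ← K.tor_smul_pt l x, ← K.tor_smul_pt (tau h l) (J.T x), ← J.T_spec hx,
    ← J.u_tor l, mul_smul, mul_smul, inv_smul_smul]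

theorem T_central {x : h.UQ} (hxa : x.a = 0) (hx : x ≠ 1) : (J.T x).a = 0 ∧ (J.T x).b = x.b⁻¹ := by
  obtain ⟨r, hr, hrr⟩ := exists_sqrt_fixed h (QField.UQ.b_fixed hxa)
  have hr0 : r ≠ 0 := fun e => b_ne_zero hx (by rw [← hrr, e, zero_mul])
  have hx' : x = theta (Units.mk0 r hr0) (zOne h) := by
    refine QField.UQ.ext ?_ ?_
    · show x.a = r * 0
      rw [hxa, mul_zero]
    · show x.b = r * r ^ h.q * 1
      rw [hr, hrr, mul_one]
  have hv : ((tau h (Units.mk0 r hr0) : Fˣ) : F) = r⁻¹ := by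
    rw [tau, Units.val_inv_eq_inv_val, Units.val_pow_eq_pow_val, Units.val_mk0, hr]
  rw [hx', J.T_theta _ (fun e => one_ne_zero (congrArg QField.UQ.b e)), J.T_one]
  refine ⟨mul_zero _, ?_⟩
  show ((tau h _ : Fˣ) : F) * ((tau h _ : Fˣ) : F) ^ h.q * 1 = (r * r ^ h.q * 1)⁻¹
  rw [hv, inv_pow, hr, mul_one, mul_one, mul_inv]

theorem T_noncentral {x : h.UQ} (hxa : x.a ≠ 0) : (J.T x).a ≠ 0 := by
  have hx : x ≠ 1 := fun e => hxa (by rw [e]; rfl)
  intro e
  have := (J.T_central e (J.T_ne hx)).1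
  rw [J.T_T hx] at this
  exact hxa this

theorem exists_orbit_blk {y : h.UQ} (hy : y.a ≠ 0) : ∃ g, ∀ c, K.Blk g (K.pt (some (twist c y))) := by
  classical
  let M : Subgroup G := centralizer (Set.range H.w)
  have hMw : ∀ {m : G}, m ∈ M → ∀ c, H.w c * m = m * H.w c := fun hm c =>
    mem_centralizer_iff.1 hm _ ⟨c, rfl⟩
  have hMz : ∀ z : h.UQ, z.a = 0 → H.ι z ∈ M := fun z hz => mem_centralizer_iff.2 (by
    rintro _ ⟨c, rfl⟩
    rw [H.w_mul_ι, twist_central c hz])
  have hMd : ∀ l, (K.tor l : G) ∈ M := fun l => mem_centralizer_iff.2 (by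
    rintro _ ⟨c, rfl⟩
    exact H.D_comm K.ne (K.w_mem_D c) (K.tor_mem l))
  have hMu : J.u ∈ M := mem_centralizer_iff.2 (by
    rintro _ ⟨c, rfl⟩
    exact (K.Sw_w J.mem c).symm)
  let m : Option {z : h.UQ // z.a = 0} × {z : h.UQ // z.a = 0} × Fˣ → G := fun p =>
    (match p.1 with | none => 1 | some x => H.ι x.1 * J.u) * (H.ι p.2.1.1 * (K.tor p.2.2 : G))
  have hm : ∀ p, m p ∈ M := by
    rintro ⟨o, z, l⟩
    refine mul_mem ?_ (mul_mem (hMz _ z.2) (hMd l))
    cases o with
    | none => exact one_mem _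
    | some x => exact mul_mem (hMz _ x.2) hMu
  have himg : ∀ p, m p • H.base = K.pt (p.1.map Subtype.val) := by
    rintro ⟨o, z, l⟩
    show (_ * (H.ι z.1 * (K.tor l : G))) • H.base = _
    rw [mul_smul, K.S_smul_base (mul_mem (H.S_le_N (H.mem_S_of _)) (K.tor l).2)]
    cases o with
    | none => exact one_smul _ _
    | some x =>
      show (H.ι x.1 * J.u) • H.base = _
      rw [mul_smul, J.u_base]
      rfl
  have hminj : Function.Injective m := by
    rintro ⟨o, z, l⟩ ⟨o', z', l'⟩ e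
    have ho : o = o' := by
      have := congrArg (· • H.base) e
      simp only [himg] at this
      exact Option.map_injective Subtype.val_injective (K.pt_inj this)
    subst ho
    have e' : H.ι z.1 * (K.tor l : G) = H.ι z'.1 * (K.tor l' : G) := mul_left_cancel e
    have hz : z.1 = z'.1 := by
      have := congrArg (· • K.P) e'
      simp only [mul_smul, show ∀ l, (K.tor l : G) • K.P = K.P from fun l => (K.tor_mem l).2] at this
      exact H.ι_smul_inj K.ne this
    rw [hz] at e'
    have hl : l = l' := by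
      have := congrArg H.el (Subtype.ext (mul_left_cancel e') : K.tor l = K.tor l')
      rw [K.tor_el, K.tor_el] at this
      exact Units.ext this
    obtain rfl := Subtype.ext hz
    rw [hl]
  -- two elements with the same image of `y`
  have hoff : ∀ p, ∃ x : {z : h.UQ // ¬ z.a = 0}, m p • K.pt (some y) = K.pt (some x.1) := by
    intro p
    obtain ⟨c, hc⟩ := exists_mu_ne_one h
    have hne : H.w c • (m p • K.pt (some y)) ≠ m p • K.pt (some y) := by
      rw [← mul_smul, hMw (hm p) c, mul_smul, K.w_smul_pt]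
      intro e
      exact hy (twist_one_eq hc (Option.some_injective _ (K.pt_inj (smul_left_cancel _ e))))
    obtain ⟨o, ho⟩ := K.pt_surj (m p • K.pt (some y))
    cases o with
    | none => exact absurd (by rw [← ho]; exact K.S_smul_base (H.w_mem_N c)) hne
    | some x =>
      refine ⟨⟨x, fun hxa => hne ?_⟩, ho.symm⟩
      rw [← ho, K.w_smul_pt, twist_central c hxa]
  choose f hf using hoff
  have hcard : Nat.card {z : h.UQ // ¬ z.a = 0} <
      Nat.card (Option {z : h.UQ // z.a = 0} × {z : h.UQ // z.a = 0} × Fˣ) := by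
    rw [Nat.card_prod, Nat.card_prod, Finite.card_option, card_central, Nat.card_units,
      Nat.card_eq_fintype_card (α := F), h.card]
    have h1 := card_noncentral h
    have hq := h.four_le
    have h2 : h.q ^ 2 * h.q = h.q ^ 3 := by ring
    have h3 : (h.q + 1) * (h.q * (h.q ^ 2 - 1)) + (h.q + 1) * h.q = (h.q + 1) * (h.q ^ 3) := by
      have h4 : 1 ≤ h.q ^ 2 := Nat.one_le_pow _ _ (by omega)
      rw [← mul_add, ← h2]
      congr 1
      conv_rhs => rw [mul_comm]
      nth_rewrite 3 [← mul_one h.q]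
      rw [← mul_add, Nat.sub_add_cancel h4]
    show _ < (h.q + 1) * (h.q * (h.q ^ 2 - 1))
    nlinarith
  obtain ⟨p, p', hpp, hne⟩ : ∃ p p', f p = f p' ∧ p ≠ p' := by
    by_contra hall
    push Not at hall
    exact absurd hcard (not_lt.2 (Nat.card_le_card_of_injective f fun p p' e => hall p p' e))
  set g := (m p)⁻¹ * m p' with hg
  have hgM : g ∈ M := mul_mem (inv_mem (hm p)) (hm p')
  have hg1 : g ≠ 1 := fun e => hne (hminj (inv_mul_eq_one.1 e))
  have hgy : ∀ c, g • K.pt (some (twist c y)) = K.pt (some (twist c y)) := by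
    intro c
    rw [← K.w_smul_pt, ← mul_smul, ← hMw hgM c, mul_smul]
    congr 1
    rw [hg, mul_smul, inv_smul_eq_iff, hf p, hf p', hpp]
  obtain ⟨c1, hc1⟩ := exists_mu_ne_one h
  have htw : ∀ c d, K.pt (some (twist c y)) = K.pt (some (twist d y)) → c = d := by
    intro c d e
    have := congrArg QField.UQ.a (Option.some_injective _ (K.pt_inj e))
    exact Subtype.ext (Units.ext (mul_right_cancel₀ hy this))
  obtain ⟨k, hk1, hk2⟩ := K.exists_pair (Q := K.pt (some (twist 1 y))) (R := K.pt (some (twist c1 y)))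
    (fun e => hc1 (htw _ _ e).symm)
  have hgk : ∀ R : H.Pt, g • R = R → (k⁻¹ * g * k) • (k⁻¹ • R) = k⁻¹ • R := fun R hR => by
    rw [mul_smul, mul_smul, smul_inv_smul, hR]
  have hD : k⁻¹ * g * k ∈ H.D K.P := by
    constructor
    · show (k⁻¹ * g * k) • H.base = H.base
      have := hgk _ (hgy 1)
      rwa [← hk1, inv_smul_smul] at this
    · show (k⁻¹ * g * k) • K.P = K.P
      have := hgk _ (hgy c1)
      rwa [← hk2, inv_smul_smul] at this
  have hc2 : c1 * c1 ≠ 1 := by
    intro e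
    refine hc1 (eq_one_of_pow_two_pow (k := 1) (odd_q_add_one (h := h)) (by rw [pow_one, pow_two]; exact e) ?_)
    exact Hypo.mu_pow c1
  obtain ⟨o, ho⟩ := K.pt_surj (k⁻¹ • K.pt (some (twist (c1 * c1) y)))
  obtain ⟨x, rfl, hx⟩ : ∃ x, o = some x ∧ x ≠ 1 := by
    cases o with
    | none =>
      exfalso
      apply hc2
      refine htw _ _ ?_
      have h9 : k • K.pt none = K.pt (some (twist (c1 * c1) y)) := by rw [ho, smul_inv_smul]
      rw [← h9]
      exact hk1
    | some x =>
      refine ⟨x, rfl, ?_⟩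
      rintro rfl
      have h9 : k • K.pt (some 1) = K.pt (some (twist (c1 * c1) y)) := by rw [ho, smul_inv_smul]
      rw [K.pt_one, hk2] at h9
      exact hc1 (mul_left_cancel ((mul_one c1).trans (htw _ _ h9))).symm
  have hne1 : k⁻¹ * g * k ≠ 1 := fun e => hg1 (by
    rw [show g = k * (k⁻¹ * g * k) * k⁻¹ by group, e]; group)
  obtain ⟨c', hc', hgw⟩ := K.fix_three hD hx (by rw [ho]; exact hgk _ (hgy _)) hne1
  refine ⟨k * 1, fun c => ?_⟩
  rw [← smul_inv_smul k (K.pt (some (twist c y))), K.blk_smul]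
  exact K.w_fix_blk hc' (hgw ▸ hgk _ (hgy c))

theorem line_blk {c : F} (hc : c ≠ 0) :
    ∃ g, ∀ y : h.UQ, y.b = c * y.a ^ h.q → K.Blk g (K.pt (some y)) := by
  obtain ⟨s, hs⟩ := QField.UQ.exists_mk (h := h) c
  obtain ⟨g, hg⟩ := J.exists_orbit_blk (y := s⁻¹) (show s.a ≠ 0 by rw [hs]; exact hc)
  refine ⟨H.ι s * g, fun y hy => ?_⟩
  have hcq : c ^ h.q ≠ 0 := pow_ne_zero _ hc
  have hok : c * y.a ^ h.q + c ^ h.q * y.a + y.a * y.a ^ h.q = 0 := by
    have := y.ok
    rw [hy, mul_pow, h.pow_pow'] at this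
    exact this
  have he : (1 + y.a / c) * (1 + y.a / c) ^ h.q = 1 := by
    rw [h.add_pow', one_pow, div_pow]
    field_simp
    linear_combination hok
  have he0 : (1 + y.a / c) ≠ 0 := left_ne_zero_of_mul_eq_one he
  let e : ↥(mu h) := ⟨Units.mk0 _ he0, Units.ext (by
    rw [Units.val_pow_eq_pow_val, pow_succ']; exact he)⟩
  have hy' : y = s * twist e s⁻¹ := by
    refine QField.UQ.ext ?_ ?_
    · show y.a = s.a + (1 + y.a / c) * s.a
      rw [hs]
      field_simp
      linear_combination -c * h.two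
    · show y.b = s.b + s.b ^ h.q + s.a * ((1 + y.a / c) * s.a) ^ h.q
      rw [hy, hs, mul_pow, h.add_pow', one_pow, div_pow]
      have hok' := s.ok
      rw [hs] at hok'
      field_simp
      linear_combination -hok'
  rw [hy', ← K.ι_smul_pt, K.blk_smul]
  exact hg e

theorem vertical {g : G} {p q : h.UQ} (hb : K.Blk g H.base) (hp : K.Blk g (K.pt (some p)))
    (hq : K.Blk g (K.pt (some q))) : p.a = q.a := by
  have hv : K.Blk (H.ι p * 1) H.base := by
    rw [← K.S_smul_base (H.S_le_N (H.mem_S_of p)), K.blk_smul]; exact K.blk_one_base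
  have hvp : K.Blk (H.ι p * 1) (K.pt (some p)) := by
    conv => arg 3; rw [← mul_one p, ← K.ι_smul_pt, K.pt_one]
    rw [K.blk_smul]; exact K.blk_one_origin
  have := K.blk_unique (fun e => absurd (K.pt_inj (e : K.pt none = K.pt (some p))).symm
    (Option.some_ne_none _)) hb hp hv hvp hq
  conv at this => arg 3; rw [← mul_inv_cancel_left p q, ← K.ι_smul_pt]
  rw [K.blk_smul, K.blk_one_pt] at this
  change p.a + q.a = 0 at this
  linear_combination this - q.a * h.two

theorem two_mu : ∃ e e' : ↥(mu h), e ≠ 1 ∧ e' ≠ 1 ∧ e ≠ e' := by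
  obtain ⟨c, hc⟩ := exists_mu_ne_one h
  refine ⟨c, c * c, hc, ?_, ?_⟩
  · intro e
    refine hc (eq_one_of_pow_two_pow (k := 1) (odd_q_add_one (h := h)) (by rw [pow_one, pow_two]; exact e) ?_)
    exact Hypo.mu_pow c
  · intro e
    exact hc (left_eq_mul.1 e)

/-- The swapper is the inversion. -/
theorem T_formula {x : h.UQ} (hx : x ≠ 1) :
    (J.T x).a = x.a / x.b ^ h.q ∧ (J.T x).b = x.b⁻¹ := by
  obtain ⟨x1, hx1⟩ := QField.UQ.exists_mk (h := h) 1
  have hx1n : x1 ≠ 1 := fun e => one_ne_zero (α := F) (by rw [← hx1, e]; rfl)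
  set g := (J.T x1).a ^ h.q * x1.b with hg
  have hg0 : g ≠ 0 := mul_ne_zero (pow_ne_zero _ (J.T_noncentral (by rw [hx1]; exact one_ne_zero)))
    (b_ne_zero hx1n)
  have hne : ∀ {y : h.UQ}, y.a ≠ 0 → y ≠ 1 := fun hy e => hy (by rw [e]; rfl)
  -- first coordinate
  have hA : ∀ y : h.UQ, y.a ≠ 0 → (J.T y).a ^ h.q * y.b = g * y.a ^ h.q := by
    intro y hy
    have hyq : y.a ^ h.q ≠ 0 := pow_ne_zero _ hy
    have hyb := b_ne_zero (hne hy)
    have hxb := b_ne_zero hx1n
    set l : Fˣ := Units.mk0 (y.b / (y.a ^ h.q * x1.b)) (div_ne_zero hyb (mul_ne_zero hyq hxb)) with hl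
    obtain ⟨B, hB⟩ := J.line_blk (c := y.b / y.a ^ h.q) (div_ne_zero hyb hyq)
    have hp1 : K.Blk B (K.pt (some 1)) := hB 1 (by
      show (0 : F) = _ * (0 : F) ^ h.q
      rw [zero_pow q_ne_zero, mul_zero])
    have hpy : K.Blk B (K.pt (some y)) := hB y (by field_simp)
    have hpl : K.Blk B (K.pt (some (theta l x1))) := hB _ (by
      show (l : F) * (l : F) ^ h.q * x1.b = _ * ((l : F) * x1.a) ^ h.q
      rw [hx1, mul_one, hl, Units.val_mk0]
      field_simp)
    have hv : (J.T y).a = (J.T (theta l x1)).a := by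
      refine J.vertical (g := J.u * B) ?_ ?_ ?_
      · rw [← J.u_origin, K.blk_smul, ← K.pt_one]; exact hp1
      · rw [← J.T_spec (hne hy), K.blk_smul]; exact hpy
      · rw [← J.T_spec (J.theta_ne hx1n), K.blk_smul]; exact hpl
    have e : (J.T (theta l x1)).a = ((tau h l : Fˣ) : F) * (J.T x1).a :=
      congrArg QField.UQ.a (J.T_theta l hx1n)
    rw [hv, e, mul_pow, hg, tau, Units.val_inv_eq_inv_val, Units.val_pow_eq_pow_val, inv_pow, h.pow_pow',
      hl, Units.val_mk0, inv_div]
    field_simp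
  -- second coordinate
  have hB2 : ∀ y : h.UQ, y.a ≠ 0 → (J.T y).b * y.b = g * g := by
    intro y hy
    have e1 := hA y hy
    have e2 := hA (J.T y) (J.T_noncentral hy)
    rw [J.T_T (hne hy)] at e2
    refine mul_left_cancel₀ (pow_ne_zero h.q hy) ?_
    linear_combination y.b * e2 + g * e1
  -- `g` is fixed
  have hfix : g ^ h.q = g := by
    by_contra hng
    have huniq : ∀ y : h.UQ, y.a = 1 → y.b * (g + g ^ h.q) = g := by
      intro y hy1
      have hy : y.a ≠ 0 := by rw [hy1]; exact one_ne_zero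
      have e1 := hA y hy
      rw [hy1, one_pow, mul_one] at e1
      have e2 := hB2 y hy
      have e1' : (J.T y).a * y.b ^ h.q = g ^ h.q := by
        have := congrArg (fun z : F => z ^ h.q) e1
        simpa [mul_pow, h.pow_pow'] using this
      have e2' : (J.T y).b ^ h.q * y.b ^ h.q = g ^ h.q * g ^ h.q := by
        rw [← mul_pow, ← mul_pow, e2]
      have ok := y.ok
      rw [hy1, one_pow, mul_one] at ok
      have okT := (J.T y).ok
      have key : (g + g ^ h.q) * (g * y.b ^ h.q + g ^ h.q * y.b) = 0 := by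
        linear_combination (y.b * y.b ^ h.q) * okT - (y.b ^ h.q) * e2 - y.b * e2'
          - ((J.T y).a * y.b ^ h.q) * e1 - g * e1' + (g * g ^ h.q) * ok
          - (g * g ^ h.q) * h.two
      have h0 : g + g ^ h.q ≠ 0 := fun e => hng (by linear_combination e - g * h.two)
      have k2 := (mul_eq_zero.1 key).resolve_left h0
      linear_combination k2 - g * ok + (g * y.b) * h.two
    obtain ⟨z, hz⟩ : ∃ z : h.UQ, z = x1 * zOne h := ⟨_, rfl⟩
    have hz1 : z.a = 1 := by rw [hz, QField.UQ.mul_a, hx1]; show (1 : F) + 0 = 1; rw [add_zero]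
    have h1 := huniq x1 hx1
    have h2 := huniq z hz1
    have hzb : z.b = x1.b + 1 := by
      rw [hz, QField.UQ.mul_b]; show x1.b + 1 + _ * (0 : F) ^ h.q = _
      rw [zero_pow q_ne_zero, mul_zero, add_zero]
    rw [hzb] at h2
    exact hng (by linear_combination h2 - h1 - g * h.two)
  -- `g = 1`
  have hone : g = 1 := by
    obtain ⟨B, hB⟩ := J.line_blk (c := (1 : F)) one_ne_zero
    obtain ⟨e, e', he, he', hee⟩ := J.two_mu
    have hmk : ∀ e : ↥(mu h), e ≠ 1 → ∃ y : h.UQ, y.a = 1 + ((e : Fˣ) : F) ∧ y.a ≠ 0 ∧ y.b = y.a ^ h.q := by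
      intro e he
      have h0 : 1 + ((e : Fˣ) : F) ≠ 0 := fun e0 => mu_val_ne_one he (by linear_combination e0 - h.two)
      refine ⟨⟨1 + ((e : Fˣ) : F), (1 + ((e : Fˣ) : F)) ^ h.q, ?_⟩, rfl, h0, rfl⟩
      rw [h.pow_pow', h.add_pow', one_pow]
      linear_combination mu_norm e + (2 + ((e : Fˣ) : F) + ((e : Fˣ) : F) ^ h.q) * h.two
    obtain ⟨y, hya, hy0, hyb⟩ := hmk e he
    obtain ⟨y', hya', hy0', hyb'⟩ := hmk e' he'
    obtain ⟨B', hB'⟩ := J.line_blk (c := g) hg0
    obtain ⟨zg, hzga, hzgb⟩ : ∃ z : h.UQ, z.a = 0 ∧ z.b = g * g :=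
      ⟨⟨0, g * g, by rw [mul_pow, hfix, zero_mul, add_zero, h.self_add]⟩, rfl, rfl⟩
    have hgen : ∀ y : h.UQ, y.a ≠ 0 → y.b = y.a ^ h.q →
        K.Blk (J.u * (H.ι (zOne h) * B)) (K.pt (some (J.T (zOne h * y)))) ∧
        K.Blk (H.ι zg * B') (K.pt (some (J.T (zOne h * y)))) := by
      intro y hy hyb
      have hYa : (zOne h * y).a = y.a := by rw [QField.UQ.mul_a]; exact zero_add _
      have hY : (zOne h * y).a ≠ 0 := by rw [hYa]; exact hy
      have hYb : (zOne h * y).b = 1 + y.b := by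
        rw [QField.UQ.mul_b]; show 1 + y.b + 0 * _ = _; rw [zero_mul, add_zero]
      constructor
      · rw [← J.T_spec (hne hY), K.blk_smul, ← K.ι_smul_pt, K.blk_smul]
        exact hB y (by rw [hyb, one_mul])
      · have e1 := hA _ hY
        have e2 := hB2 _ hY
        rw [hYa] at e1
        rw [hYb] at e1 e2
        rw [show J.T (zOne h * y) = zg * (zg⁻¹ * J.T (zOne h * y)) by rw [mul_inv_cancel_left],
          ← K.ι_smul_pt, K.blk_smul]
        refine hB' _ ?_
        rw [QField.UQ.mul_a, QField.UQ.mul_b]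
        show zg.b ^ h.q + (J.T (zOne h * y)).b + zg.a * _ = g * (zg.a + (J.T (zOne h * y)).a) ^ h.q
        rw [hzga, hzgb, mul_pow, hfix, zero_mul, add_zero, zero_add]
        refine mul_left_cancel₀ (show 1 + y.b ≠ 0 from fun e => b_ne_zero (hne hY) (hYb.trans e)) ?_
        linear_combination e2 - g * e1 + (g * g) * hyb + (g * g) * h.two
    obtain ⟨hy1, hy2⟩ := hgen y hy0 hyb
    obtain ⟨hy1', hy2'⟩ := hgen y' hy0' hyb'
    have hdist : K.pt (some (J.T (zOne h * y))) ≠ K.pt (some (J.T (zOne h * y'))) := by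
      intro e0
      have hY : ∀ {y : h.UQ}, y.a ≠ 0 → zOne h * y ≠ 1 := fun {y} hy e => hy (by
        have e1 : (zOne h * y).a = 0 := by rw [e]; rfl
        rw [QField.UQ.mul_a] at e1
        exact (zero_add y.a).symm.trans e1)
      have := congrArg J.T (Option.some_injective _ (K.pt_inj e0))
      rw [J.T_T (hY hy0), J.T_T (hY hy0')] at this
      have := congrArg QField.UQ.a (mul_left_cancel this)
      rw [hya, hya'] at this
      exact hee (Subtype.ext (Units.ext (add_left_cancel this)))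
    have hz : K.Blk (J.u * (H.ι (zOne h) * B)) (K.pt (some (zOne h))) := by
      rw [← J.one, K.blk_smul, ← mul_one (zOne h), ← K.ι_smul_pt, K.pt_one, mul_one, K.blk_smul]
      rw [← K.pt_one]
      exact hB 1 (by show (0 : F) = 1 * (0 : F) ^ h.q; rw [zero_pow q_ne_zero, mul_zero])
    have hzB' := K.blk_unique hdist hy1 hy1' hy2 hy2' hz
    rw [← mul_inv_cancel_left zg (zOne h), ← K.ι_smul_pt, K.blk_smul] at hzB'
    set r := zg⁻¹ * zOne h with hr
    have hra : r.a = 0 := by
      show zg.a + (0 : F) = 0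
      rw [hzga, add_zero]
    have hrb : r.b = g * g + 1 := by
      show zg.b ^ h.q + 1 + zg.a * _ = _
      rw [hzgb, hzga, mul_pow, hfix, zero_mul, add_zero]
    by_contra hg1
    have hr1 : r ≠ 1 := by
      intro e0
      have : r.b = 0 := by rw [e0]; rfl
      rw [hrb] at this
      have e3 : (g + 1) * (g + 1) = 0 := by linear_combination this + g * h.two
      exact hg1 (by linear_combination mul_self_eq_zero.1 e3 - h.two)
    -- a line has no second central point
    have hp : K.Blk B' (K.pt (some 1)) := hB' 1 (by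
      show (0 : F) = g * (0 : F) ^ h.q
      rw [zero_pow q_ne_zero, mul_zero])
    obtain ⟨s, hs⟩ : ∃ s : h.UQ, s.a ≠ 0 ∧ s.b = g * s.a ^ h.q := by
      have h0 : 1 + ((e : Fˣ) : F) ≠ 0 := fun e0 => mu_val_ne_one he (by linear_combination e0 - h.two)
      refine ⟨⟨g * (1 + ((e : Fˣ) : F)), g * (g * (1 + ((e : Fˣ) : F))) ^ h.q, ?_⟩, mul_ne_zero hg0 h0, rfl⟩
      simp only [mul_pow, h.pow_pow', h.add_pow', one_pow, hfix]
      linear_combination (g * g) * mu_norm e +
        (g * g * (2 + ((e : Fˣ) : F) + ((e : Fˣ) : F) ^ h.q)) * h.two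
    have := K.blk_unique (fun e0 => hr1 (Option.some_injective _ (K.pt_inj e0)).symm) hp hzB'
      ((K.blk_one_pt 1).2 rfl) ((K.blk_one_pt r).2 hra) (hB' s hs.2)
    exact hs.1 ((K.blk_one_pt s).1 this)
  by_cases hxa : x.a = 0
  · obtain ⟨h1, h2⟩ := J.T_central hxa hx
    exact ⟨by rw [h1, hxa, zero_div], h2⟩
  · have e1 := hA x hxa
    have e2 := hB2 x hxa
    rw [hone, one_mul] at e1 e2
    have hb := b_ne_zero hx
    refine ⟨?_, eq_inv_of_mul_eq_one_left e2⟩
    have e1' := congrArg (fun z : F => z ^ h.q) e1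
    simp only [mul_pow, h.pow_pow'] at e1'
    rw [eq_div_iff (pow_ne_zero _ hb)]
    exact e1'

end Swap

end CfsgLib.Recog.EvenUnitary
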