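import Cfsg.Agent.Lib.Recog.EvenUnitary.ModelCent

/-!
A group with one class of involutions and a centralizer of unitary type: the Sylow 2-subgroup is TI and the
centre of it is regularly permuted by its normalizer (S2212).
-/

set_option autoImplicit false
set_option linter.unusedSectionVars false

namespace CfsgLib.Recog.EvenUnitary

open CfsgLib.Chev.PSUSyl Subgroup

universe u v

variable {F : Type v} [Field F] [Fintype F] {h : QField F} {G : Type u} [Group G] [Finite G]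

/-- The hypotheses of S2212. -/
structure Hypo (h : QField F) (G : Type u) [Group G] extends Cent h G where
  conj_all : ∀ s t : G, orderOf s = 2 → orderOf t = 2 → IsConj s t
  not_normal : ¬ (ι.range).Normal

theorem odd_q_add_one : Odd (h.q + 1) :=
  (Nat.even_pow.2 ⟨even_two, by have := h.two_le; omega⟩).add_one

theorem odd_q_sub_one : Odd (h.q - 1) :=
  Nat.Even.sub_odd (one_lt_q (h := h)).le
    (Nat.even_pow.2 ⟨even_two, by have := h.two_le; omega⟩) odd_one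

/-- A finite subgroup is normalized by what conjugates it into itself. -/
theorem mem_normalizer_of_conj_mem {S : Subgroup G} {g : G} (hg : ∀ x ∈ S, g * x * g⁻¹ ∈ S) :
    g ∈ normalizer (S : Set G) := by
  have e : S.map (MulAut.conj g).toMonoidHom = S := by
    refine eq_of_le_of_card_ge ?_ ?_
    · rintro _ ⟨x, hx, rfl⟩; exact hg x hx
    · rw [card_map_of_injective (MulAut.conj g).injective]
  refine mem_normalizer_iff.2 fun x => ⟨hg x, fun hx => ?_⟩
  have hx : g * x * g⁻¹ ∈ S.map (MulAut.conj g).toMonoidHom := by rw [e]; exact hx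
  obtain ⟨y, hy, hyx⟩ := hx
  rwa [← (MulAut.conj g).injective hyx]

theorem sq_eq_one_of_orderOf {M : Type*} [Group M] {u : M} (hu : orderOf u = 2) : u * u = 1 := by
  rw [← pow_two, ← hu, pow_orderOf_eq_one]

theorem inv_eq_self_of_orderOf {M : Type*} [Group M] {u : M} (hu : orderOf u = 2) : u⁻¹ = u :=
  inv_eq_of_mul_eq_one_right (sq_eq_one_of_orderOf hu)

theorem eq_one_of_pow_two_pow {M : Type*} [Group M] {x : M} {k m : ℕ} (hm : Odd m) (h2 : x ^ (2 ^ k) = 1)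
    (ho : x ^ m = 1) : x = 1 :=
  orderOf_eq_one_iff.1 (Nat.eq_one_of_dvd_coprimes
    ((Nat.coprime_two_left.2 hm).pow_left k) (orderOf_dvd_of_pow_eq_one h2) (orderOf_dvd_of_pow_eq_one ho))

namespace Hypo

variable (H : Hypo h G)
include H

/-- The Sylow 2-subgroup. -/
def S : Subgroup G := H.ι.range

/-- The chosen involution. -/
def z0 : G := H.ι (zOne h)

/-- Its centralizer. -/
def C : Subgroup G := centralizer {H.z0}

/-- The normalizer of the Sylow 2-subgroup. -/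
def N : Subgroup G := normalizer (H.S : Set G)

theorem mem_S_of (x : h.UQ) : H.ι x ∈ H.S := ⟨x, rfl⟩

theorem mem_C {g : G} : g ∈ H.C ↔ ∃ x c, g = H.ι x * H.w c :=
  mem_centralizer_singleton_iff.trans (H.cent g)

theorem decomp_inj {x y : h.UQ} {c d : ↥(mu h)} (e : H.ι x * H.w c = H.ι y * H.w d) : x = y ∧ c = d := by
  have e' : H.ι (y⁻¹ * x) = H.w (d * c⁻¹) := by
    rw [map_mul, map_inv, map_mul, map_inv, eq_mul_inv_iff_mul_eq, mul_assoc, e, inv_mul_cancel_left]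
  have hx := inv_mul_eq_one.1 (H.disj _ _ e')
  subst hx
  exact ⟨rfl, H.w_inj (mul_left_cancel e)⟩

theorem card_S : Nat.card H.S = h.q ^ 3 := by
  rw [S, ← Nat.card_congr (MonoidHom.ofInjective H.ι_inj).toEquiv, QField.UQ.card_eq]

omit H [Finite G] in
theorem q_cube : h.q ^ 3 = 2 ^ (h.n * 3) := (pow_mul 2 h.n 3).symm

theorem isPGroup_S : IsPGroup 2 H.S := IsPGroup.of_card (by rw [H.card_S, q_cube])

theorem z0_order : orderOf H.z0 = 2 := by
  refine orderOf_eq_prime ?_ ?_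
  · rw [pow_two, z0, ← map_mul, QField.UQ.sq_of_center rfl, map_one]
  · intro e
    have := congrArg QField.UQ.b (H.ι_inj (e.trans (map_one _).symm))
    exact one_ne_zero this

theorem z0_mem : H.z0 ∈ H.S := H.mem_S_of _

theorem card_C : Nat.card H.C = h.q ^ 3 * (h.q + 1) := by
  rw [← QField.UQ.card_eq (h := h), ← card_mu (h := h), ← Nat.card_prod]
  refine (Nat.card_congr (Equiv.ofBijective
    (fun p => ⟨H.ι p.1 * H.w p.2, H.mem_C.2 ⟨p.1, p.2, rfl⟩⟩) ⟨fun p p' e => ?_, fun g => ?_⟩)).symm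
  · obtain ⟨h1, h2⟩ := H.decomp_inj (congrArg Subtype.val e)
    exact Prod.ext h1 h2
  · obtain ⟨x, c, hg⟩ := H.mem_C.1 g.2
    exact ⟨(x, c), Subtype.ext hg.symm⟩

theorem w_mul_ι (c : ↥(mu h)) (x : h.UQ) : H.w c * H.ι x = H.ι (twist c x) * H.w c :=
  mul_inv_eq_iff_eq_mul.1 (H.conj c x)

theorem mul_pair (x y : h.UQ) (c d : ↥(mu h)) :
    H.ι x * H.w c * (H.ι y * H.w d) = H.ι (x * twist c y) * H.w (c * d) := by
  rw [map_mul, map_mul, mul_assoc, ← mul_assoc (H.w c), H.w_mul_ι, mul_assoc, mul_assoc]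

theorem pow_pair (x : h.UQ) (c : ↥(mu h)) :
    ∀ n : ℕ, ∃ y, (H.ι x * H.w c) ^ n = H.ι y * H.w (c ^ n)
  | 0 => ⟨1, by simp⟩
  | n + 1 => by
    obtain ⟨y, hy⟩ := pow_pair x c n
    exact ⟨_, by rw [pow_succ, hy, H.mul_pair, pow_succ]⟩

omit H [Finite G] in
theorem mu_pow (c : ↥(mu h)) : c ^ (h.q + 1) = 1 := Subtype.ext c.2

theorem pow_mem_S {g : G} (hg : g ∈ H.C) : g ^ (h.q + 1) ∈ H.S := by
  obtain ⟨x, c, rfl⟩ := H.mem_C.1 hg
  obtain ⟨y, hy⟩ := H.pow_pair x c (h.q + 1)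
  rw [hy, mu_pow, map_one, mul_one]
  exact H.mem_S_of y

theorem two_mem_S {g : G} (hg : g ∈ H.C) {k : ℕ} (hk : g ^ (2 ^ k) = 1) : g ∈ H.S := by
  obtain ⟨x, c, rfl⟩ := H.mem_C.1 hg
  obtain ⟨y, hy⟩ := H.pow_pair x c (2 ^ k)
  rw [hy] at hk
  have hc : c ^ (2 ^ k) = 1 := (H.decomp_inj (hk.trans (by rw [map_one, map_one, mul_one] : (1 : G) =
    H.ι 1 * H.w 1))).2
  rw [eq_one_of_pow_two_pow odd_q_add_one hc (mu_pow c), map_one, mul_one]
  exact H.mem_S_of x

theorem S_le_C : H.S ≤ H.C := by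
  rintro _ ⟨x, rfl⟩
  exact H.mem_C.2 ⟨x, 1, by rw [map_one, mul_one]⟩

theorem C_le_N : H.C ≤ H.N := by
  intro g hg
  refine mem_normalizer_of_conj_mem ?_
  rintro _ ⟨y, rfl⟩
  obtain ⟨x, c, rfl⟩ := H.mem_C.1 hg
  exact ⟨x * twist c y * x⁻¹, by
    rw [map_mul, map_mul, map_inv, mul_inv_rev, mul_assoc (H.ι x) (H.w c), H.w_mul_ι]; group⟩

theorem S_le_N : H.S ≤ H.N := H.S_le_C.trans H.C_le_N

/-- An involution of the Sylow 2-subgroup is central. -/
theorem invol_form {s : G} (hs : s ∈ H.S) (h2 : orderOf s = 2) :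
    ∃ x : h.UQ, x.a = 0 ∧ x ≠ 1 ∧ H.ι x = s := by
  obtain ⟨x, rfl⟩ := hs
  refine ⟨x, QField.UQ.of_inv (H.ι_inj ?_), fun e => ?_, rfl⟩
  · rw [map_mul, map_one, sq_eq_one_of_orderOf h2]
  · rw [e, map_one, orderOf_one] at h2; omega

theorem invol_cent {s : G} (hs : s ∈ H.S) (h2 : orderOf s = 2) : centralizer {s} = H.C := by
  obtain ⟨x, hxa, -, rfl⟩ := H.invol_form hs h2
  have hle : H.C ≤ centralizer {H.ι x} := by
    intro g hg
    obtain ⟨y, c, rfl⟩ := H.mem_C.1 hg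
    refine mem_centralizer_singleton_iff.2 ?_
    have hc : H.w c * H.ι x = H.ι x * H.w c := by
      rw [H.w_mul_ι]
      congr 2
      exact QField.UQ.ext (by simp [twist, hxa]) rfl
    rw [mul_assoc, hc, ← mul_assoc, ← mul_assoc, ← map_mul, ← map_mul]
    congr 2
    exact (QField.UQ.comm_iff _ _).2 (by simp [hxa, zero_pow q_ne_zero])
  refine (eq_of_le_of_card_ge hle (le_of_eq ?_)).symm
  obtain ⟨g, hg⟩ := isConj_iff.1 (H.conj_all _ _ H.z0_order h2)
  have hmem : ∀ k, k ∈ H.C ↔ MulAut.conj g k ∈ centralizer {H.ι x} := by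
    intro k
    rw [C, mem_centralizer_singleton_iff, mem_centralizer_singleton_iff, ← hg, ← MulAut.conj_apply,
      ← map_mul, ← map_mul, (MulAut.conj g).injective.eq_iff]
  exact (Nat.card_congr ((MulAut.conj g).toEquiv.subtypeEquiv hmem)).symm

theorem card_two_le {P : Subgroup G} (hP : IsPGroup 2 P) : Nat.card P ≤ h.q ^ 3 := by
  haveI : Fact (Nat.Prime 2) := ⟨Nat.prime_two⟩
  rcases eq_or_ne P ⊥ with rfl | hne
  · rw [card_bot]; exact Nat.one_le_pow _ _ (by have := one_lt_q (h := h); omega)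
  haveI : Nontrivial P := (nontrivial_iff_ne_bot P).2 hne
  haveI : Nontrivial (center P) := hP.center_nontrivial
  obtain ⟨k, hk⟩ := (hP.to_subgroup (center P)).exists_card_eq
  obtain ⟨v, hv⟩ := exists_prime_orderOf_dvd_card' (G := center P) 2 (by
    rw [hk]
    refine dvd_pow_self 2 fun e => ?_
    rw [e, pow_zero] at hk
    exact absurd hk (Finite.one_lt_card_iff_nontrivial.2 inferInstance).ne')
  have hv' : orderOf ((v : P) : G) = 2 := by rw [orderOf_coe, orderOf_coe, hv]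
  obtain ⟨g, hg⟩ := isConj_iff.1 (H.conj_all _ _ hv' H.z0_order)
  have hle : P.map (MulAut.conj g).toMonoidHom ≤ H.C := by
    rintro _ ⟨p, hp, rfl⟩
    refine mem_centralizer_singleton_iff.2 ?_
    have := congrArg Subtype.val (mem_center_iff.1 v.2 ⟨p, hp⟩)
    rw [← hg]
    show g * p * g⁻¹ * (g * ((v : P) : G) * g⁻¹) = g * ((v : P) : G) * g⁻¹ * (g * p * g⁻¹)
    simp only [coe_mul] at this
    calc g * p * g⁻¹ * (g * ((v : P) : G) * g⁻¹) = g * (p * ((v : P) : G)) * g⁻¹ := by group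
      _ = g * (((v : P) : G) * p) * g⁻¹ := by rw [this]
      _ = _ := by group
  have hd := card_dvd_of_le hle
  rw [card_map_of_injective (MulAut.conj g).injective, H.card_C] at hd
  obtain ⟨k, hk⟩ := hP.exists_card_eq
  rw [hk] at hd ⊢
  exact Nat.le_of_dvd (by positivity)
    (((Nat.coprime_two_left.2 odd_q_add_one).pow_left k).dvd_of_dvd_mul_right hd)

theorem S_max {P : Subgroup G} (hP : IsPGroup 2 P) (hle : H.S ≤ P) : P = H.S :=
  (eq_of_le_of_card_ge hle (by rw [H.card_S]; exact H.card_two_le hP)).symm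

/-- The Sylow 2-subgroup. -/
def sylow : Sylow 2 G where
  toSubgroup := H.S
  isPGroup' := H.isPGroup_S
  is_maximal' hQ hle := H.S_max hQ hle

theorem exists_invol_power {s : G} (hs : s ∈ H.S) (h1 : s ≠ 1) : ∃ k : ℕ, orderOf (s ^ k) = 2 := by
  haveI : Fact (Nat.Prime 2) := ⟨Nat.prime_two⟩
  obtain ⟨k, hk⟩ := IsPGroup.iff_orderOf.1 H.isPGroup_S ⟨s, hs⟩
  rw [orderOf_mk] at hk
  refine ⟨orderOf s / 2, orderOf_pow_orderOf_div (by rw [hk]; positivity) ?_⟩
  rw [hk]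
  refine dvd_pow_self 2 fun e => h1 ?_
  rw [e, pow_zero] at hk
  exact orderOf_eq_one_iff.1 hk

/-- The Sylow 2-subgroup is a TI set. -/
theorem ti {g s : G} (hs : s ∈ H.S) (h1 : s ≠ 1) (hg : g * s * g⁻¹ ∈ H.S) : g ∈ H.N := by
  obtain ⟨k, hk⟩ := H.exists_invol_power hs h1
  have hv' : g * s ^ k * g⁻¹ ∈ H.S := by rw [← conj_pow]; exact pow_mem hg k
  have hord : orderOf (g * s ^ k * g⁻¹) = 2 := by
    rw [← MulAut.conj_apply]
    exact ((MulAut.conj g).orderOf_eq _).trans hk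
  refine mem_normalizer_of_conj_mem fun x hx => ?_
  have hxC : g * x * g⁻¹ ∈ H.C := by
    rw [← H.invol_cent hv' hord, mem_centralizer_singleton_iff]
    have : x * s ^ k = s ^ k * x := by
      have hxc : x ∈ centralizer {s ^ k} := by
        rw [H.invol_cent (pow_mem hs k) hk]; exact H.S_le_C hx
      exact mem_centralizer_singleton_iff.1 hxc
    calc g * x * g⁻¹ * (g * s ^ k * g⁻¹) = g * (x * s ^ k) * g⁻¹ := by group
      _ = g * (s ^ k * x) * g⁻¹ := by rw [this]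
      _ = _ := by group
  obtain ⟨m, hm⟩ := H.isPGroup_S ⟨x, hx⟩
  refine H.two_mem_S hxC (k := m) ?_
  rw [conj_pow, show x ^ 2 ^ m = 1 from congrArg Subtype.val hm, mul_one, mul_inv_cancel]

theorem two_mem_of_N {g : G} (hg : g ∈ H.N) {k : ℕ} (hk : g ^ (2 ^ k) = 1) : g ∈ H.S := by
  haveI : Fact (Nat.Prime 2) := ⟨Nat.prime_two⟩
  have hz : IsPGroup 2 (zpowers g) := by
    obtain ⟨j, -, hj⟩ := (Nat.dvd_prime_pow Nat.prime_two).1 (orderOf_dvd_of_pow_eq_one hk)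
    exact IsPGroup.of_card (n := j) (by rw [Nat.card_zpowers, hj])
  have := H.S_max (IsPGroup.to_sup_of_normal_right' hz H.isPGroup_S (zpowers_le.2 hg)) le_sup_right
  rw [← this]
  exact le_sup_left (α := Subgroup G) (mem_zpowers g)

theorem invol_mem_of_N {g : G} (hg : g ∈ H.N) (h2 : orderOf g = 2) : g ∈ H.S :=
  H.two_mem_of_N hg (k := 1) (by rw [pow_one, ← h2, pow_orderOf_eq_one])

/-- The involutions of the Sylow 2-subgroup. -/
def ZS : Set G := {s | s ∈ H.S ∧ orderOf s = 2}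

theorem card_ZS : Nat.card H.ZS = h.q - 1 := by
  classical
  have hb : ∀ x : h.UQ, x.a = 0 → x ≠ 1 → x.b ≠ 0 := fun x ha hx hb => hx (QField.UQ.ext ha hb)
  have e : {c : F // c ^ h.q = c ∧ c ≠ 0} ≃ H.ZS :=
    Equiv.ofBijective
      (fun c => ⟨H.ι ⟨0, c.1, by simp [zero_pow q_ne_zero, c.2.1, h.self_add]⟩, H.mem_S_of _, by
        refine orderOf_eq_prime ?_ fun e => c.2.2 ?_
        · rw [pow_two, ← map_mul, QField.UQ.sq_of_center rfl, map_one]
        · exact congrArg QField.UQ.b (H.ι_inj (e.trans (map_one _).symm))⟩)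
      ⟨fun c c' e => Subtype.ext (congrArg QField.UQ.b (H.ι_inj (congrArg Subtype.val e))), fun s => by
        obtain ⟨x, hxa, hx1, hxs⟩ := H.invol_form s.2.1 s.2.2
        refine ⟨⟨x.b, QField.UQ.b_fixed hxa, hb x hxa hx1⟩, Subtype.ext ?_⟩
        rw [← hxs]
        exact congrArg H.ι (QField.UQ.ext hxa.symm rfl)⟩
  rw [← Nat.card_congr e]
  have h0 : (0 : F) ^ h.q = 0 := zero_pow q_ne_zero
  haveI := Fintype.ofFinite {c : F // c ^ h.q = c}
  have e2 : {c : F // c ^ h.q = c ∧ c ≠ 0} ≃ {c : {c : F // c ^ h.q = c} // c ≠ ⟨0, h0⟩} :=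
    { toFun := fun c => ⟨⟨c.1, c.2.1⟩, fun e => c.2.2 (congrArg Subtype.val e)⟩
      invFun := fun c => ⟨c.1.1, c.1.2, fun e => c.2 (Subtype.ext e)⟩
      left_inv := fun _ => rfl
      right_inv := fun _ => rfl }
  rw [Nat.card_congr e2, Nat.card_eq_fintype_card, Fintype.card_subtype_compl, Fintype.card_subtype_eq,
    ← Nat.card_eq_fintype_card, h.card_fixed]

theorem N_conj_ZS {g s : G} (hg : g ∈ H.N) (hs : s ∈ H.ZS) : g * s * g⁻¹ ∈ H.ZS :=
  ⟨(mem_normalizer_iff.1 hg s).1 hs.1, by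
    rw [← MulAut.conj_apply]; exact ((MulAut.conj g).orderOf_eq _).trans hs.2⟩

theorem C_normal_N {g : G} (hg : g ∈ H.N) {c : G} (hc : c ∈ H.C) : g * c * g⁻¹ ∈ H.C := by
  have hz := H.N_conj_ZS hg (s := H.z0) ⟨H.z0_mem, H.z0_order⟩
  rw [← H.invol_cent hz.1 hz.2, mem_centralizer_singleton_iff]
  have := mem_centralizer_singleton_iff.1 hc
  calc g * c * g⁻¹ * (g * H.z0 * g⁻¹) = g * (c * H.z0) * g⁻¹ := by group
    _ = g * (H.z0 * c) * g⁻¹ := by rw [this]
    _ = _ := by group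

theorem conj_eq_iff {g k : G} : g * H.z0 * g⁻¹ = k * H.z0 * k⁻¹ ↔ g⁻¹ * k ∈ H.C := by
  rw [C, mem_centralizer_singleton_iff]
  constructor
  · intro e
    calc g⁻¹ * k * H.z0 = g⁻¹ * (k * H.z0 * k⁻¹) * k := by group
      _ = g⁻¹ * (g * H.z0 * g⁻¹) * k := by rw [e]
      _ = _ := by group
  · intro e
    calc g * H.z0 * g⁻¹ = g * (H.z0 * (g⁻¹ * k)) * k⁻¹ := by group
      _ = g * (g⁻¹ * k * H.z0) * k⁻¹ := by rw [e]
      _ = _ := by group

theorem index_C_N : (H.C.subgroupOf H.N).index = h.q - 1 := by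
  rw [← H.card_ZS]
  refine Nat.card_congr (Equiv.ofBijective (Quotient.lift
    (fun g : H.N => (⟨(g : G) * H.z0 * (g : G)⁻¹, H.N_conj_ZS g.2 ⟨H.z0_mem, H.z0_order⟩⟩ : H.ZS)) ?_)
    ⟨?_, ?_⟩)
  · intro a b hab
    exact Subtype.ext (H.conj_eq_iff.2 (mem_subgroupOf.1 (QuotientGroup.leftRel_apply.1 hab)))
  · rintro ⟨a⟩ ⟨b⟩ e
    exact Quotient.sound (QuotientGroup.leftRel_apply.2 (mem_subgroupOf.2 (H.conj_eq_iff.1 (congrArg Subtype.val e))))
  · rintro ⟨s, hs⟩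
    obtain ⟨g, hg⟩ := isConj_iff.1 (H.conj_all _ _ H.z0_order hs.2)
    have hgN : g ∈ H.N := H.ti H.z0_mem (fun e => by
      have := H.z0_order; rw [e, orderOf_one] at this; omega) (by rw [hg]; exact hs.1)
    exact ⟨⟦⟨g, hgN⟩⟧, Subtype.ext hg⟩

theorem card_N : Nat.card H.N = h.q ^ 3 * (h.q ^ 2 - 1) := by
  rw [← (H.C.subgroupOf H.N).card_mul_index, Nat.card_congr (subgroupOfEquivOfLe H.C_le_N).toEquiv,
    H.card_C, H.index_C_N, mul_assoc, ← Nat.sq_sub_sq, one_pow]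

theorem pow_mem_C {g : G} (hg : g ∈ H.N) : g ^ (h.q - 1) ∈ H.C := by
  haveI : (H.C.subgroupOf H.N).Normal := ⟨fun c hc k => mem_subgroupOf.2 (by
    push_cast
    exact H.C_normal_N k.2 (mem_subgroupOf.1 hc))⟩
  have := (H.C.subgroupOf H.N).pow_index_mem ⟨g, hg⟩
  rw [H.index_C_N, mem_subgroupOf] at this
  simpa using this

theorem pow_sq_mem_S {g : G} (hg : g ∈ H.N) : g ^ (h.q ^ 2 - 1) ∈ H.S := by
  rw [show h.q ^ 2 - 1 = (h.q - 1) * (h.q + 1) by rw [mul_comm, ← Nat.sq_sub_sq, one_pow], pow_mul]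
  exact H.pow_mem_S (H.pow_mem_C hg)

/-- An element of odd order inverted by a conjugation and centralizing an involution is trivial. -/
theorem invert_trivial {u x v : G} {m : ℕ} (hu : u * x * u⁻¹ = x⁻¹) (hm : Odd m) (hxm : x ^ m = 1)
    (hv : orderOf v = 2) (hxv : x * v = v * x) : x = 1 := by
  haveI : Fact (Nat.Prime 2) := ⟨Nat.prime_two⟩
  -- move `v` to `z0`
  obtain ⟨g, hg⟩ := isConj_iff.1 (H.conj_all _ _ hv H.z0_order)
  suffices key : ∀ u x : G, u * x * u⁻¹ = x⁻¹ → x ^ m = 1 → x ∈ H.C → x = 1 by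
    refine conj_eq_one_iff.1 (key (g * u * g⁻¹) (g * x * g⁻¹) ?_ ?_ ?_)
    · calc g * u * g⁻¹ * (g * x * g⁻¹) * (g * u * g⁻¹)⁻¹ = g * (u * x * u⁻¹) * g⁻¹ := by group
        _ = _ := by rw [hu]; group
    · rw [conj_pow, hxm, mul_one, mul_inv_cancel]
    · rw [C, mem_centralizer_singleton_iff, ← hg]
      calc g * x * g⁻¹ * (g * v * g⁻¹) = g * (x * v) * g⁻¹ := by group
        _ = g * (v * x) * g⁻¹ := by rw [hxv]
        _ = _ := by group
  clear hu hxv hxm
  intro u x hu hxm hxC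
  -- a Sylow 2-subgroup of the centralizer through `z0` lies in `S`
  let X := centralizer ({x} : Set G)
  have hz0X : H.z0 ∈ X :=
    mem_centralizer_singleton_iff.2 (mem_centralizer_singleton_iff.1 hxC).symm
  have hz0ne : H.z0 ≠ 1 := fun e => by
    have := H.z0_order; rw [e, orderOf_one] at this; omega
  have hcyc : ∀ y : X, orderOf (y : G) = 2 → IsPGroup 2 (zpowers y) := fun y hy =>
    IsPGroup.of_card (n := 1) (by rw [Nat.card_zpowers, ← orderOf_coe, hy, pow_one])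
  obtain ⟨P, hP⟩ := (hcyc ⟨H.z0, hz0X⟩ H.z0_order).exists_le_sylow
  have hPS : ∀ p : X, p ∈ P → (p : G) ∈ H.S := by
    obtain ⟨Q, hQ⟩ := (P.2.map X.subtype).exists_le_sylow
    obtain ⟨k, hk⟩ := MulAction.exists_smul_eq G H.sylow Q
    have hmem : ∀ y ∈ (P : Subgroup X).map X.subtype, k⁻¹ * y * k ∈ H.S := by
      intro y hy
      have := hQ hy
      rw [← hk, Sylow.smul_def, Sylow.pointwise_smul_def, mem_pointwise_smul_iff_inv_smul_mem] at this
      simpa [MulAut.smul_def, sylow] using this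
    have hkN : k⁻¹ ∈ H.N := H.ti H.z0_mem hz0ne (by
      rw [inv_inv]; exact hmem _ ⟨_, hP (mem_zpowers _), rfl⟩)
    intro p hp
    exact (mem_normalizer_iff.1 hkN p).2 (by rw [inv_inv]; exact hmem p ⟨p, hp, rfl⟩)
  -- an element inverting `x` and fixing `S`
  have huX : u * H.z0 * u⁻¹ ∈ X := by
    refine mem_centralizer_singleton_iff.2 ?_
    have e : x = u * x⁻¹ * u⁻¹ := by
      have h1 := congrArg (·⁻¹) hu
      simp only [inv_inv, mul_inv_rev] at h1
      rw [mul_assoc]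
      exact h1.symm
    have hc : Commute x⁻¹ H.z0 := Commute.inv_left (mem_centralizer_singleton_iff.1 hxC)
    have := hc.map (MulAut.conj u).toMonoidHom
    simp only [MulEquiv.coe_toMonoidHom, MulAut.conj_apply] at this
    rw [← e] at this
    exact this.symm.eq
  have hu2 : orderOf (u * H.z0 * u⁻¹) = 2 := by
    rw [← MulAut.conj_apply]; exact ((MulAut.conj u).orderOf_eq _).trans H.z0_order
  obtain ⟨P', hP'⟩ := (hcyc ⟨_, huX⟩ hu2).exists_le_sylow
  obtain ⟨c, hc⟩ := MulAction.exists_smul_eq X P' P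
  have hcu : (c : G) * u * H.z0 * ((c : G) * u)⁻¹ ∈ H.S := by
    have h1 : c * ⟨_, huX⟩ * c⁻¹ ∈ (P : Subgroup X) := by
      rw [← hc]
      exact Subgroup.smul_mem_pointwise_smul (⟨_, huX⟩ : X) (MulAut.conj c) _ (hP' (mem_zpowers _))
    have := hPS _ h1
    simpa [mul_assoc] using this
  have hN : (c : G) * u ∈ H.N := H.ti H.z0_mem hz0ne hcu
  -- a power in `S` still inverts `x`
  have hcx : (c : G) * u * x * ((c : G) * u)⁻¹ = x⁻¹ := by
    have h1 : (c : G) * x⁻¹ = x⁻¹ * c :=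
      (Commute.inv_right (mem_centralizer_singleton_iff.1 c.2)).eq
    calc (c : G) * u * x * ((c : G) * u)⁻¹ = (c : G) * (u * x * u⁻¹) * (c : G)⁻¹ := by group
      _ = _ := by rw [hu, h1]; group
  have hpow : ∀ j : ℕ, Odd j → ((c : G) * u) ^ j * x * (((c : G) * u) ^ j)⁻¹ = x⁻¹ := by
    intro j hj
    obtain ⟨i, rfl⟩ := hj
    generalize (c : G) * u = k at hcx ⊢
    have h2 : Commute (k ^ 2) x := by
      refine mul_inv_eq_iff_eq_mul.1 ?_
      calc k ^ 2 * x * (k ^ 2)⁻¹ = k * (k * x * k⁻¹) * k⁻¹ := by rw [pow_two]; group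
        _ = k * x⁻¹ * k⁻¹ := by rw [hcx]
        _ = (k * x * k⁻¹)⁻¹ := by group
        _ = x := by rw [hcx, inv_inv]
    have h2i : k ^ (2 * i) * x * (k ^ (2 * i))⁻¹ = x :=
      mul_inv_eq_iff_eq_mul.2 (by rw [pow_mul]; exact (h2.pow_left i).eq)
    rw [show 2 * i + 1 = 1 + 2 * i by ring, pow_add, pow_one]
    calc k * k ^ (2 * i) * x * (k * k ^ (2 * i))⁻¹
        = k * (k ^ (2 * i) * x * (k ^ (2 * i))⁻¹) * k⁻¹ := by group
      _ = x⁻¹ := by rw [h2i, hcx]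
  have hodd : Odd (h.q ^ 2 - 1) := by
    rw [show h.q ^ 2 - 1 = (h.q - 1) * (h.q + 1) by rw [mul_comm, ← Nat.sq_sub_sq, one_pow]]
    exact odd_q_sub_one.mul odd_q_add_one
  have hinv := hpow _ hodd
  set s := ((c : G) * u) ^ (h.q ^ 2 - 1) with hs
  have hsS : s ∈ H.S := H.pow_sq_mem_S hN
  have hxx : x⁻¹ * x⁻¹ ∈ H.S := by
    have := mul_mem hsS ((mem_normalizer_iff.1 (H.C_le_N hxC) s⁻¹).1 (inv_mem hsS))
    rwa [show s * (x * s⁻¹ * x⁻¹) = s * x * s⁻¹ * x⁻¹ by group, hinv] at this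
  obtain ⟨k, hk⟩ := H.isPGroup_S ⟨_, hxx⟩
  have hk' : (x⁻¹ * x⁻¹) ^ 2 ^ k = 1 := congrArg Subtype.val hk
  rw [← pow_two, ← pow_mul, ← pow_succ'] at hk'
  exact inv_eq_one.1 (eq_one_of_pow_two_pow hm hk' (by rw [inv_pow, hxm, inv_one]))

end Hypo

end CfsgLib.Recog.EvenUnitary
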