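import Cfsg.Agent.Lib.Recog.EvenUnitary.Defs
import Cfsg.Prelude.Def_LieClassical

/-!
The unitary group of the antidiagonal Hermitian form in three variables, `q` even (S2212).
-/

set_option autoImplicit false

namespace CfsgLib.Recog.EvenUnitary

open CfsgLib.Chev.PSUSyl
open CfsgLib.Chev.PSUSyl.QField.UQ (mat mat_mul mat_one)
open Matrix

universe v

variable {F : Type v} [Field F] [Fintype F] {h : QField F}

/-- The antidiagonal form. -/
def hyp (q : ℕ) (u w : Fin 3 → F) : F := u 0 * w 2 ^ q + u 1 * w 1 ^ q + u 2 * w 0 ^ q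

variable (h) in
/-- Its isometry group. -/
def Hyp : Subgroup (GL (Fin 3) F) :=
  Cfsg.preserving (Units.coeHom (Matrix (Fin 3) (Fin 3) F)) (hyp h.q)

theorem mem_Hyp {g : GL (Fin 3) F} :
    g ∈ Hyp h ↔ ∀ u w, hyp h.q ((g : Matrix (Fin 3) (Fin 3) F) *ᵥ u)
      ((g : Matrix (Fin 3) (Fin 3) F) *ᵥ w) = hyp h.q u w := Iff.rfl

/-- The translation matrix as a unit. -/
def matU : h.UQ →* GL (Fin 3) F where
  toFun x := ⟨mat x, mat x⁻¹, by rw [← mat_mul, mul_inv_cancel, mat_one],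
    by rw [← mat_mul, inv_mul_cancel, mat_one]⟩
  map_one' := Units.ext mat_one
  map_mul' x y := Units.ext (mat_mul x y)

theorem matU_mem (x : h.UQ) : matU x ∈ Hyp h := by
  refine mem_Hyp.2 fun u w => ?_
  show hyp h.q (mat x *ᵥ u) (mat x *ᵥ w) = _
  simp [hyp, mat, Matrix.mulVec, dotProduct, Fin.sum_univ_three, h.add_pow', mul_pow, h.pow_pow']
  linear_combination (u 2 * w 2 ^ h.q) * x.ok
    + (x.a * u 1 * w 2 ^ h.q + x.a ^ h.q * u 2 * w 1 ^ h.q) * h.two

/-- A diagonal unit. -/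
def diagU (d : Fin 3 → Fˣ) : GL (Fin 3) F :=
  ⟨Matrix.diagonal fun i => (d i : F), Matrix.diagonal fun i => ((d i)⁻¹ : Fˣ),
    by rw [Matrix.diagonal_mul_diagonal]; simp, by rw [Matrix.diagonal_mul_diagonal]; simp⟩

theorem diagU_mem (d : Fin 3 → Fˣ) (h02 : (d 0 : F) * (d 2 : F) ^ h.q = 1)
    (h11 : (d 1 : F) * (d 1 : F) ^ h.q = 1) : diagU d ∈ Hyp h := by
  have h20 : (d 2 : F) * (d 0 : F) ^ h.q = 1 := by
    have e := congrArg (fun z : F => z ^ h.q) h02
    simp only [mul_pow, h.pow_pow', one_pow] at e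
    rw [mul_comm]; exact e
  refine mem_Hyp.2 fun u w => ?_
  show hyp h.q (Matrix.diagonal _ *ᵥ u) (Matrix.diagonal _ *ᵥ w) = _
  simp only [hyp, Matrix.mulVec_diagonal, mul_pow]
  linear_combination (u 0 * w 2 ^ h.q) * h02 + (u 1 * w 1 ^ h.q) * h11 + (u 2 * w 0 ^ h.q) * h20

/-- The antidiagonal permutation. -/
def flipU (F : Type v) [Field F] : GL (Fin 3) F :=
  ⟨!![0, 0, 1; 0, 1, 0; 1, 0, 0], !![0, 0, 1; 0, 1, 0; 1, 0, 0],
    by ext i j; fin_cases i <;> fin_cases j <;> simp [Matrix.mul_apply, Fin.sum_univ_three],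
    by ext i j; fin_cases i <;> fin_cases j <;> simp [Matrix.mul_apply, Fin.sum_univ_three]⟩

theorem flipU_mem : flipU F ∈ Hyp h := by
  refine mem_Hyp.2 fun u w => ?_
  show hyp h.q (!![0, 0, 1; 0, 1, 0; 1, 0, 0] *ᵥ u) (!![0, 0, 1; 0, 1, 0; 1, 0, 0] *ᵥ w) = _
  simp [hyp, Matrix.mulVec, dotProduct, Fin.sum_univ_three]
  ring

/-- The scalar matrices of norm one. -/
def scalU : ↥(mu h) →* GL (Fin 3) F where
  toFun c := diagU fun _ => (c : Fˣ)
  map_one' := Units.ext (by ext i j; simp [diagU, Matrix.diagonal_apply, Matrix.one_apply])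
  map_mul' c c' := Units.ext (by
    show Matrix.diagonal _ = Matrix.diagonal _ * Matrix.diagonal _
    rw [Matrix.diagonal_mul_diagonal]
    simp)

theorem scalU_mem (c : ↥(mu h)) : scalU c ∈ Hyp h := diagU_mem _ (mu_norm c) (mu_norm c)

theorem scalU_val (c : ↥(mu h)) : (scalU c : Matrix (Fin 3) (Fin 3) F) = ((c : Fˣ) : F) • 1 := by
  rw [Matrix.smul_one_eq_diagonal]; rfl

/-- The middle torus. -/
def midU : ↥(mu h) →* GL (Fin 3) F where
  toFun c := diagU ![1, (c : Fˣ)⁻¹, 1]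
  map_one' := Units.ext (by
    ext i j; fin_cases i <;> fin_cases j <;> simp [diagU, Matrix.diagonal_apply])
  map_mul' c c' := Units.ext (by
    show Matrix.diagonal _ = Matrix.diagonal _ * Matrix.diagonal _
    rw [Matrix.diagonal_mul_diagonal]
    congr 1
    funext i
    fin_cases i <;> simp [mul_comm])

theorem midU_mem (c : ↥(mu h)) : midU c ∈ Hyp h := by
  refine diagU_mem _ (by simp) ?_
  have := mu_norm (c⁻¹)
  simpa using this

theorem mid_conj (c : ↥(mu h)) (x : h.UQ) : midU c * matU x * (midU c)⁻¹ = matU (twist c x) := by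
  rw [mul_inv_eq_iff_eq_mul]
  apply Units.ext
  show Matrix.diagonal _ * mat x = mat (twist c x) * Matrix.diagonal _
  have hn := mu_norm c
  ext i j
  fin_cases i <;> fin_cases j <;>
    simp [mat, twist, Matrix.diagonal_mul, Matrix.mul_diagonal, mul_pow, mul_comm, mul_left_comm]
  -- the middle entry of the last column
  all_goals
    field_simp
    linear_combination (-(x.a ^ h.q)) * hn

theorem center_le (g : ↥(Hyp h)) (hg : g ∈ Subgroup.center ↥(Hyp h)) :
    ∃ c : ↥(mu h), (g : GL (Fin 3) F) = scalU c := by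
  have com : ∀ x ∈ Hyp h, (x : Matrix (Fin 3) (Fin 3) F) * (g : GL (Fin 3) F) =
      ((g : GL (Fin 3) F) : Matrix (Fin 3) (Fin 3) F) * x := fun x hx =>
    congrArg (fun y : ↥(Hyp h) => ((y : GL (Fin 3) F) : Matrix (Fin 3) (Fin 3) F))
      (Subgroup.mem_center_iff.1 hg ⟨x, hx⟩)
  obtain ⟨a, ha⟩ := QField.UQ.exists_mk (h := h) 1
  have hA : mat a * ((g : GL (Fin 3) F) : Matrix (Fin 3) (Fin 3) F) =
      ((g : GL (Fin 3) F) : Matrix (Fin 3) (Fin 3) F) * mat a := com _ (matU_mem a)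
  have hZ : mat (zOne h) * ((g : GL (Fin 3) F) : Matrix (Fin 3) (Fin 3) F) =
      ((g : GL (Fin 3) F) : Matrix (Fin 3) (Fin 3) F) * mat (zOne h) := com _ (matU_mem (zOne h))
  have hJ : (flipU F : Matrix (Fin 3) (Fin 3) F) * ((g : GL (Fin 3) F) : Matrix (Fin 3) (Fin 3) F) =
      ((g : GL (Fin 3) F) : Matrix (Fin 3) (Fin 3) F) * (flipU F : Matrix (Fin 3) (Fin 3) F) :=
    com _ flipU_mem
  set M := ((g : GL (Fin 3) F) : Matrix (Fin 3) (Fin 3) F) with hM
  have z := fun i j => congrFun (congrFun hZ i) j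
  have a' := fun i j => congrFun (congrFun hA i) j
  have j' := fun i j => congrFun (congrFun hJ i) j
  have h20 : M 2 0 = 0 := by
    have := z 0 0
    simpa [mat, zOne, Matrix.mul_apply, Fin.sum_univ_three, zero_pow q_ne_zero] using this
  have h21 : M 2 1 = 0 := by
    have := z 0 1
    simpa [mat, zOne, Matrix.mul_apply, Fin.sum_univ_three, zero_pow q_ne_zero] using this
  have h10 : M 1 0 = 0 := by
    have := z 1 2
    simpa [mat, zOne, Matrix.mul_apply, Fin.sum_univ_three, zero_pow q_ne_zero] using this.symm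
  have h22 : M 2 2 = M 0 0 := by
    have := z 0 2
    simp [mat, zOne, Matrix.mul_apply, Fin.sum_univ_three, zero_pow q_ne_zero] at this
    linear_combination this
  have h02 : M 0 2 = 0 := by
    have := j' 0 0
    simp [flipU, Matrix.mul_apply, Fin.sum_univ_three] at this
    rw [← this, h20]
  have h12 : M 1 2 = 0 := by
    have := j' 1 0
    simp [flipU, Matrix.mul_apply, Fin.sum_univ_three] at this
    rw [← this, h10]
  have h01 : M 0 1 = 0 := by
    have := j' 0 1
    simp [flipU, Matrix.mul_apply, Fin.sum_univ_three] at this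
    rw [← this, h21]
  have h11 : M 1 1 = M 0 0 := by
    have := a' 0 1
    simp [mat, ha, Matrix.mul_apply, Fin.sum_univ_three, h21] at this
    linear_combination this
  have hMs : M = M 0 0 • 1 := by
    ext i j
    fin_cases i <;> fin_cases j <;> simp [h20, h21, h10, h22, h02, h12, h01, h11]
  have hn : M 0 0 * (M 0 0) ^ h.q = 1 := by
    have := mem_Hyp.1 g.2 ![0, 1, 0] ![0, 1, 0]
    rw [← hM] at this
    rw [hMs] at this
    simpa [hyp, Matrix.smul_mulVec, Matrix.one_mulVec, zero_pow q_ne_zero] using this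
  have h0 : M 0 0 ≠ 0 := left_ne_zero_of_mul_eq_one hn
  refine ⟨⟨Units.mk0 _ h0, Units.ext (by rw [Units.val_pow_eq_pow_val, pow_succ']; exact hn)⟩,
    Units.ext ?_⟩
  rw [scalU_val, ← hM]
  exact hMs

theorem scalU_central (c : ↥(mu h)) :
    (⟨scalU c, scalU_mem c⟩ : ↥(Hyp h)) ∈ Subgroup.center ↥(Hyp h) := by
  refine Subgroup.mem_center_iff.2 fun g => Subtype.ext (Units.ext ?_)
  show (g : GL (Fin 3) F).val * (scalU c).val = (scalU c).val * (g : GL (Fin 3) F).val
  rw [scalU_val, mul_smul_comm, mul_one, smul_mul_assoc, one_mul]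

end CfsgLib.Recog.EvenUnitary
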