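import Cfsg.Agent.Lib.Recog.EvenUnitary.Matrices

/-!
An involution centralizer in `PGU(3,q)`, `q` even, and the passage to the standard form (S2212).
-/

set_option autoImplicit false

namespace CfsgLib.Recog.EvenUnitary

open CfsgLib.Chev.PSUSyl
open CfsgLib.Chev.PSUSyl.QField.UQ (mat chg mat_injective)
open Matrix

universe v

variable {F : Type v} [Field F] [Fintype F]

/-- The unitary group of the antidiagonal form is that of the standard one. -/
theorem exists_gu_equiv (h : QField F) : Nonempty (↥(Hyp h) ≃* ↥(Cfsg.GU 3 F h.q)) := by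
  obtain ⟨x, hx⟩ := h.exists_fibre (t := 1) (one_pow _)
  have hdet : (chg x).det ≠ 0 := by
    have : (chg x).det = -1 := by simp [chg, det_fin_three]
    rw [this]; exact neg_ne_zero.2 one_ne_zero
  let P : GL (Fin 3) F := Matrix.GeneralLinearGroup.mkOfDetNeZero _ hdet
  have hP : ∀ u v : Fin 3 → F, Cfsg.hermForm 3 F h.q ((P : Matrix (Fin 3) (Fin 3) F) *ᵥ u)
      ((P : Matrix (Fin 3) (Fin 3) F) *ᵥ v) = hyp h.q u v := by
    intro u v
    simp [P, chg, hyp, Cfsg.hermForm, Fin.sum_univ_three, Matrix.mulVec, dotProduct, h.add_pow', mul_pow,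
      zero_pow (show h.q ≠ 0 by positivity)]
    linear_combination (u 2 * v 2 ^ h.q) * hx
      + (u 0 * v 0 ^ h.q + u 2 * v 0 ^ h.q * x + u 0 * v 2 ^ h.q * x ^ h.q
          + u 2 * v 2 ^ h.q * (x * x ^ h.q + 1)) * h.two
  have hPi : ∀ u, (P : Matrix (Fin 3) (Fin 3) F) *ᵥ (((P⁻¹ : GL (Fin 3) F) : Matrix _ _ F) *ᵥ u) = u :=
    fun u => by rw [mulVec_mulVec, ← Units.val_mul, mul_inv_cancel, Units.val_one, one_mulVec]
  have key : ∀ g : GL (Fin 3) F, g ∈ Hyp h ↔ P * g * P⁻¹ ∈ Cfsg.GU 3 F h.q := by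
    intro g
    have hc : ∀ u, ((P * g * P⁻¹ : GL (Fin 3) F) : Matrix (Fin 3) (Fin 3) F) *ᵥ u =
        (P : Matrix (Fin 3) (Fin 3) F) *ᵥ ((g : Matrix (Fin 3) (Fin 3) F) *ᵥ
          (((P⁻¹ : GL (Fin 3) F) : Matrix _ _ F) *ᵥ u)) := fun u => by
      simp only [Units.val_mul, ← mulVec_mulVec]
    constructor
    · intro hg u v
      show Cfsg.hermForm 3 F h.q (((P * g * P⁻¹ : GL (Fin 3) F) : Matrix (Fin 3) (Fin 3) F) *ᵥ u)
        (((P * g * P⁻¹ : GL (Fin 3) F) : Matrix (Fin 3) (Fin 3) F) *ᵥ v) = _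
      rw [hc, hc, hP, mem_Hyp.1 hg]
      conv_rhs => rw [← hPi u, ← hPi v, hP]
    · intro hg
      refine mem_Hyp.2 fun u v => ?_
      have hpi : ∀ u, ((P⁻¹ : GL (Fin 3) F) : Matrix _ _ F) *ᵥ ((P : Matrix (Fin 3) (Fin 3) F) *ᵥ u) = u :=
        fun u => by rw [mulVec_mulVec, ← Units.val_mul, inv_mul_cancel, Units.val_one, one_mulVec]
      have := hg ((P : Matrix (Fin 3) (Fin 3) F) *ᵥ u) ((P : Matrix (Fin 3) (Fin 3) F) *ᵥ v)
      change Cfsg.hermForm 3 F h.q (((P * g * P⁻¹ : GL (Fin 3) F) : Matrix (Fin 3) (Fin 3) F) *ᵥ _)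
        (((P * g * P⁻¹ : GL (Fin 3) F) : Matrix (Fin 3) (Fin 3) F) *ᵥ _) = _ at this
      rw [hc, hc, hpi, hpi, hP, hP] at this
      exact this
  have hmap : (Hyp h).map (MulAut.conj P).toMonoidHom = Cfsg.GU 3 F h.q := by
    ext g
    constructor
    · rintro ⟨g', hg', rfl⟩
      exact (key g').1 hg'
    · intro hg
      refine ⟨P⁻¹ * g * P, (key _).2 ?_, ?_⟩
      · simpa [mul_assoc] using hg
      · simp [mul_assoc]
  exact ⟨((MulAut.conj P).subgroupMap (Hyp h)).trans (MulEquiv.subgroupCongr hmap)⟩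

variable {h : QField F}

theorem card_hyp : Nat.card (Hyp h) = h.q ^ 3 * ((h.q + 1) * (h.q ^ 2 - 1) * (h.q ^ 3 + 1)) := by
  obtain ⟨e⟩ := exists_gu_equiv h
  rw [Nat.card_congr e.toEquiv, Cfsg.Agent.S0277.result h.card 3]
  simp [Finset.prod_range_succ, parity_simps]

/-- The projection to the projective group. -/
abbrev proj (h : QField F) : ↥(Hyp h) →* ↥(Hyp h) ⧸ Subgroup.center ↥(Hyp h) :=
  QuotientGroup.mk' _

theorem proj_eq_one {g : ↥(Hyp h)} (e : proj h g = 1) :
    ∃ c : ↥(mu h), ((g : GL (Fin 3) F) : Matrix (Fin 3) (Fin 3) F) = ((c : Fˣ) : F) • 1 := by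
  obtain ⟨c, hc⟩ := center_le g ((QuotientGroup.eq_one_iff g).1 e)
  exact ⟨c, by rw [hc, scalU_val]⟩

variable (h) in
/-- The translations in the projective group. -/
def pι : h.UQ →* ↥(Hyp h) ⧸ Subgroup.center ↥(Hyp h) :=
  (proj h).comp (matU.codRestrict (Hyp h) matU_mem)

variable (h) in
/-- The middle torus in the projective group. -/
def pw : ↥(mu h) →* ↥(Hyp h) ⧸ Subgroup.center ↥(Hyp h) :=
  (proj h).comp (midU.codRestrict (Hyp h) midU_mem)

theorem pι_inj : Function.Injective (pι h) := by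
  rw [← MonoidHom.ker_eq_bot_iff, eq_bot_iff]
  intro x hx
  obtain ⟨c, hc⟩ := proj_eq_one (MonoidHom.mem_ker.1 hx)
  change mat x = _ at hc
  have h01 := congrFun (congrFun hc 0) 1
  have h02 := congrFun (congrFun hc 0) 2
  simp [mat] at h01 h02
  exact Subgroup.mem_bot.2 (QField.UQ.ext h01 h02)

theorem pw_inj : Function.Injective (pw h) := by
  rw [← MonoidHom.ker_eq_bot_iff, eq_bot_iff]
  intro x hx
  obtain ⟨c, hc⟩ := proj_eq_one (MonoidHom.mem_ker.1 hx)
  change Matrix.diagonal _ = _ at hc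
  have h0 := congrFun (congrFun hc 0) 0
  have h1 := congrFun (congrFun hc 1) 1
  simp at h0 h1
  refine Subgroup.mem_bot.2 (Subtype.ext (Units.ext ?_))
  rw [← h0] at h1
  simpa using h1

theorem pdisj (x : h.UQ) (c : ↥(mu h)) (e : pι h x = pw h c) : x = 1 := by
  have e' : proj h (matU.codRestrict (Hyp h) matU_mem x * (midU.codRestrict (Hyp h) midU_mem c)⁻¹) = 1 := by
    rw [map_mul, map_inv]
    exact mul_inv_eq_one.2 e
  obtain ⟨s, hs⟩ := proj_eq_one e'
  change mat x * Matrix.diagonal _ = _ at hs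
  have h01 := congrFun (congrFun hs 0) 1
  have h02 := congrFun (congrFun hs 0) 2
  simp [mat, Matrix.mul_diagonal] at h01 h02
  exact QField.UQ.ext h01 h02

theorem pconj (c : ↥(mu h)) (x : h.UQ) : pw h c * pι h x * (pw h c)⁻¹ = pι h (twist c x) := by
  show proj h _ * proj h _ * (proj h _)⁻¹ = proj h _
  rw [← map_inv, ← map_mul, ← map_mul]
  exact congrArg (proj h) (Subtype.ext (mid_conj c x))

theorem twist_zOne (c : ↥(mu h)) : twist c (zOne h) = zOne h :=
  QField.UQ.ext (mul_zero _) rfl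

theorem zOne_comm (x : h.UQ) : x * zOne h = zOne h * x :=
  (QField.UQ.comm_iff _ _).2 (by simp [zOne, zero_pow q_ne_zero])

theorem pcent (g : ↥(Hyp h) ⧸ Subgroup.center ↥(Hyp h)) :
    g * pι h (zOne h) = pι h (zOne h) * g ↔ ∃ x c, g = pι h x * pw h c := by
  constructor
  swap
  · rintro ⟨x, c, rfl⟩
    have h1 : pw h c * pι h (zOne h) = pι h (zOne h) * pw h c := by
      have := pconj c (zOne h)
      rw [twist_zOne] at this
      exact mul_inv_eq_iff_eq_mul.1 this
    rw [mul_assoc, h1, ← mul_assoc, ← map_mul, zOne_comm, map_mul, mul_assoc]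
  intro hg
  obtain ⟨g, rfl⟩ := QuotientGroup.mk'_surjective _ g
  set T : ↥(Hyp h) := matU.codRestrict (Hyp h) matU_mem (zOne h) with hT
  have hc : g * T * (T * g)⁻¹ ∈ Subgroup.center ↥(Hyp h) := by
    refine (QuotientGroup.eq_one_iff _).1 ?_
    show proj h (g * T * (T * g)⁻¹) = 1
    rw [map_mul, map_inv, map_mul, map_mul]
    exact mul_inv_eq_one.2 hg
  obtain ⟨s, hs⟩ := center_le _ hc
  set M := ((g : GL (Fin 3) F) : Matrix (Fin 3) (Fin 3) F) with hM
  have hgT : M * mat (zOne h) = ((s : Fˣ) : F) • (mat (zOne h) * M) := by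
    have e : (g : GL (Fin 3) F) * (T : GL (Fin 3) F) = scalU s * ((T : GL (Fin 3) F) * g) := by
      rw [← hs]; simp; group
    have e' := congrArg (fun z : GL (Fin 3) F => (z : Matrix (Fin 3) (Fin 3) F)) e
    simp only [Units.val_mul, scalU_val, smul_mul_assoc, one_mul] at e'
    exact e'
  have htr : ((s : Fˣ) : F) = 1 := by
    have hi : M * ((((g : GL (Fin 3) F))⁻¹ : GL (Fin 3) F) : Matrix (Fin 3) (Fin 3) F) = 1 := by
      rw [hM, ← Units.val_mul, mul_inv_cancel, Units.val_one]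
    have hi' : ((((g : GL (Fin 3) F))⁻¹ : GL (Fin 3) F) : Matrix (Fin 3) (Fin 3) F) * M = 1 := by
      rw [hM, ← Units.val_mul, inv_mul_cancel, Units.val_one]
    have e := congrArg (fun X => Matrix.trace (((((g : GL (Fin 3) F))⁻¹ : GL (Fin 3) F) :
      Matrix (Fin 3) (Fin 3) F) * X)) hgT
    simp only [← mul_assoc, hi', one_mul, mul_smul_comm, Matrix.trace_smul] at e
    rw [Matrix.trace_mul_cycle, hi, one_mul] at e
    simp [mat, zOne, Matrix.trace, Fin.sum_univ_three] at e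
    linear_combination -e + (1 - ((s : Fˣ) : F)) * h.two
  rw [htr, one_smul] at hgT
  have z := fun i j => congrFun (congrFun hgT i) j
  have h20 : M 2 0 = 0 := by
    have := z 0 0
    simpa [mat, zOne, Matrix.mul_apply, Fin.sum_univ_three, zero_pow q_ne_zero] using this
  have h21 : M 2 1 = 0 := by
    have := z 0 1
    simpa [mat, zOne, Matrix.mul_apply, Fin.sum_univ_three, zero_pow q_ne_zero] using this
  have h10 : M 1 0 = 0 := by
    have := z 1 2
    simpa [mat, zOne, Matrix.mul_apply, Fin.sum_univ_three, zero_pow q_ne_zero] using this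
  have h22 : M 2 2 = M 0 0 := by
    have := z 0 2
    simp [mat, zOne, Matrix.mul_apply, Fin.sum_univ_three, zero_pow q_ne_zero] at this
    linear_combination -this
  have form := mem_Hyp.1 g.2
  have f02 := form ![1, 0, 0] ![0, 0, 1]
  have f11 := form ![0, 1, 0] ![0, 1, 0]
  have f12 := form ![0, 1, 0] ![0, 0, 1]
  have f22 := form ![0, 0, 1] ![0, 0, 1]
  rw [← hM] at f02 f11 f12 f22
  simp [hyp, Matrix.mulVec, dotProduct, Fin.sum_univ_three, zero_pow q_ne_zero, h20, h21, h10, h22]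
    at f02 f11 f12 f22
  set l := M 0 0 with hl
  have hl0 : l ≠ 0 := left_ne_zero_of_mul_eq_one f02
  have hli : l⁻¹ = l ^ h.q := inv_eq_of_mul_eq_one_right f02
  have hc1 : (l⁻¹ * M 1 1) * (l⁻¹ * M 1 1) ^ h.q = 1 := by
    rw [hli, mul_pow, h.pow_pow']
    linear_combination (l * l ^ h.q) * f11 + f02
  have hc0 : l⁻¹ * M 1 1 ≠ 0 := left_ne_zero_of_mul_eq_one hc1
  let c : ↥(mu h) := ⟨(Units.mk0 _ hc0)⁻¹, by
    refine inv_mem (show Units.mk0 _ hc0 ∈ mu h from Units.ext ?_)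
    rw [Units.val_pow_eq_pow_val, pow_succ']
    exact hc1⟩
  have hq2 : ∀ z : F, (z ^ h.q) ^ h.q = z := h.pow_pow'
  let x : h.UQ := ⟨(l ^ h.q * M 1 2) ^ h.q, l ^ h.q * M 0 2, by
    simp only [mul_pow, hq2]
    linear_combination f22 + (M 1 2 * M 1 2 ^ h.q) * f02⟩
  refine ⟨x, c, ?_⟩
  show proj h g = proj h (matU.codRestrict (Hyp h) matU_mem x) * proj h (midU.codRestrict (Hyp h) midU_mem c)
  rw [← map_mul]
  refine (QuotientGroup.eq).2 ?_
  let sc : ↥(mu h) := ⟨Units.mk0 (l ^ h.q) (pow_ne_zero _ hl0), Units.ext (by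
    rw [Units.val_pow_eq_pow_val, Units.val_mk0, pow_succ', hq2, mul_comm]; exact f02)⟩
  have key : matU.codRestrict (Hyp h) matU_mem x * midU.codRestrict (Hyp h) midU_mem c =
      g * ⟨scalU sc, scalU_mem sc⟩ := by
    refine Subtype.ext (Units.ext ?_)
    show mat x * Matrix.diagonal _ = M * (scalU sc).val
    rw [scalU_val, mul_smul_comm, mul_one]
    ext i j
    fin_cases i <;> fin_cases j <;>
      simp [mat, x, c, sc, Matrix.mul_diagonal, h20, h21, h10, h22, ← hl, mul_pow, hq2]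
    · linear_combination -f02
    · rw [hli]
      linear_combination (M 1 1 * M 1 2 ^ h.q) * f02 + f12 - (l ^ h.q * M 0 1) * h.two
    · exact Or.inl hli
    · linear_combination -f02
  rw [show g⁻¹ * (matU.codRestrict (Hyp h) matU_mem x * midU.codRestrict (Hyp h) midU_mem c) =
      ⟨scalU sc, scalU_mem sc⟩ by rw [key, inv_mul_cancel_left]]
  exact scalU_central sc

/-- The involution centralizer in the projective group. -/
def modelCent (h : QField F) : Cent h (↥(Hyp h) ⧸ Subgroup.center ↥(Hyp h)) where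
  ι := pι h
  w := pw h
  ι_inj := pι_inj
  w_inj := pw_inj
  disj := pdisj
  conj := pconj
  cent := pcent

end CfsgLib.Recog.EvenUnitary
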