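import Cfsg.Agent.Lib.Recog.EvenUnitary.Torus

/-!
There are `q³ + 1` points: an element of the inverted part of a pair stabilizer fixes only that pair, since
three swappers of a triangle of fixed points would make a product of an odd number of inversions in the
normalizer (S2212).
-/

set_option autoImplicit false
set_option linter.unusedSectionVars false

namespace CfsgLib.Recog.EvenUnitary

open CfsgLib.Chev.PSUSyl Subgroup

universe u v

variable {F : Type v} [Field F] [Fintype F] {h : QField F} {G : Type u} [Group G] [Finite G]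

namespace Hypo

variable (H : Hypo h G)
include H

theorem D_comm {P : H.Pt} (hP : P ≠ H.base) {a b : G} (ha : a ∈ H.D P) (hb : b ∈ H.D P) :
    a * b = b * a :=
  mul_inv_eq_one.1 (H.D_S hP (mul_mem (mul_mem ha hb) (inv_mem (mul_mem hb ha)))
    (H.comm_mem_S (H.D_le_N ha) (H.D_le_N hb)))

theorem inverted_pow {P : H.Pt} (hP : P ≠ H.base) {u x : G} (hu : u ∈ H.Sw P) (hx : x ∈ H.D P)
    (hxi : u * x * u⁻¹ = x⁻¹) : x ^ (h.q - 1) = 1 := by
  have hfix := H.Sw_fix_C hP hu (pow_mem hx (h.q - 1)) (H.pow_mem_C (H.D_le_N hx))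
  rw [← conj_pow, hxi, inv_pow] at hfix
  have hsq : (x ^ (h.q - 1)) ^ 2 ^ 1 = 1 := by
    rw [pow_one, pow_two]
    nth_rewrite 1 [← hfix]
    exact inv_mul_cancel _
  refine eq_one_of_pow_two_pow (odd_sq_sub_one (h := h)) hsq ?_
  rw [← pow_mul, mul_comm, pow_mul, H.D_pow hP hx, one_pow]

theorem pow_inverted {P : H.Pt} (hP : P ≠ H.base) {u d : G} (hu : u ∈ H.Sw P) (hd : d ∈ H.D P)
    (hdq : d ^ (h.q - 1) = 1) : u * d * u⁻¹ = d⁻¹ := by
  obtain ⟨x, hx, hxi, hxz⟩ := H.exists_inverted hP hu (H.inverted_z0 hd)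
  have hc : x⁻¹ * d ∈ H.C := H.conj_eq_iff.1 hxz
  have haD : x⁻¹ * d ∈ H.D P := mul_mem (inv_mem hx) hd
  have hcomm : Commute x⁻¹ d := H.D_comm hP (inv_mem hx) hd
  have ha1 : (x⁻¹ * d) ^ (h.q - 1) = 1 := by
    rw [hcomm.mul_pow, inv_pow, H.inverted_pow hP hu hx hxi, hdq, inv_one, one_mul]
  have ha2 := (H.D_C hP haD).1 hc
  have : x⁻¹ * d = 1 := orderOf_eq_one_iff.1 (Nat.eq_one_of_dvd_coprimes (coprime_pm (h := h))
    (orderOf_dvd_of_pow_eq_one ha1) (orderOf_dvd_of_pow_eq_one ha2))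
  rw [inv_mul_eq_one] at this
  rw [← this]; exact hxi

theorem exists_move (P : H.Pt) : ∃ g : G, g • H.base = P := by
  obtain ⟨g, rfl⟩ := Quotient.exists_rep P
  exact ⟨g, by rw [base, MulAction.Quotient.smul_coe, smul_eq_mul, mul_one]⟩

/-- Only two fixed points. -/
theorem two_fixed {P R : H.Pt} (hP : P ≠ H.base) {x : G} (hx : x ∈ H.D P) (hxq : x ^ (h.q - 1) = 1)
    (hx1 : x ≠ 1) (hR : x • R = R) : R = H.base ∨ R = P := by
  by_contra hne
  push Not at hne
  obtain ⟨hRb, hRP⟩ := hne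
  obtain ⟨g, hg⟩ := H.exists_move P
  obtain ⟨u₁, hu₁⟩ := H.exists_swapper hP
  obtain ⟨u₃, hu₃⟩ := H.exists_swapper hRb
  -- a swapper of `P` and `R`
  have hR' : g⁻¹ • R ≠ H.base := by
    intro e
    exact hRP (by rw [← hg, ← e, smul_inv_smul])
  have hx' : g⁻¹ * x * g ∈ H.D (g⁻¹ • R) := by
    constructor
    · show (g⁻¹ * x * g) • H.base = H.base
      rw [mul_smul, mul_smul, hg, show x • P = P from hx.2, ← hg, inv_smul_smul]
    · show (g⁻¹ * x * g) • g⁻¹ • R = g⁻¹ • R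
      rw [mul_smul, mul_smul, smul_inv_smul, hR]
  obtain ⟨v, hv⟩ := H.exists_swapper hR'
  have hv2 := H.pow_inverted hR' hv hx' (by
    conv_lhs => rw [show g⁻¹ * x * g = g⁻¹ * x * g⁻¹⁻¹ by rw [inv_inv]]
    rw [conj_pow, hxq, mul_one, mul_inv_cancel])
  set u₂ := g * v * g⁻¹ with hu₂
  have h2i : u₂ * x * u₂⁻¹ = x⁻¹ := by
    calc u₂ * x * u₂⁻¹ = g * (v * (g⁻¹ * x * g) * v⁻¹) * g⁻¹ := by rw [hu₂]; group
      _ = x⁻¹ := by rw [hv2]; group
  have hu₂P : u₂ • P = R := by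
    rw [hu₂, mul_smul, mul_smul, ← hg, inv_smul_smul, hv.2, smul_inv_smul]
  have h1i := H.pow_inverted hP hu₁ hx hxq
  have h3i := H.pow_inverted hRb hu₃ ⟨hx.1, hR⟩ hxq
  -- the product of the three fixes the base point and inverts `x`
  have hN : u₃ * u₂ * u₁ ∈ H.N := by
    refine H.fix_base.1 ?_
    rw [mul_smul, mul_smul, hu₁.2, hu₂P, H.Sw_back hu₃]
  have hinv : u₃ * u₂ * u₁ * x * (u₃ * u₂ * u₁)⁻¹ = x⁻¹ := by
    calc u₃ * u₂ * u₁ * x * (u₃ * u₂ * u₁)⁻¹ = u₃ * (u₂ * (u₁ * x * u₁⁻¹) * u₂⁻¹) * u₃⁻¹ := by group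
      _ = u₃ * (u₂ * x * u₂⁻¹)⁻¹ * u₃⁻¹ := by rw [h1i]; group
      _ = u₃ * x * u₃⁻¹ := by rw [h2i, inv_inv]
      _ = x⁻¹ := h3i
  have hS := H.comm_mem_S hN (H.D_le_N hx)
  have heq : u₃ * u₂ * u₁ * x * (x * (u₃ * u₂ * u₁))⁻¹ = x⁻¹ * x⁻¹ := by
    rw [mul_inv_rev, ← mul_assoc, hinv]
  rw [heq] at hS
  have h1 := H.D_S hP (mul_mem (inv_mem hx) (inv_mem hx)) hS
  refine hx1 (inv_eq_one.1 (eq_one_of_pow_two_pow (k := 1) (odd_sq_sub_one (h := h)) ?_ ?_))
  · rw [pow_one, pow_two]; exact h1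
  · rw [inv_pow, H.D_pow hP hx, inv_one]

omit H [Finite G] in
theorem exists_kappa (h : QField F) : ∃ k : F, k ^ h.q = k ∧ k ≠ 0 ∧ k ≠ 1 := by
  classical
  haveI := Fintype.ofFinite {c : F // c ^ h.q = c}
  have hc : 2 < Fintype.card {c : F // c ^ h.q = c} := by
    rw [← Nat.card_eq_fintype_card, h.card_fixed]
    have := h.four_le; omega
  obtain ⟨x, y, z, hxy, hxz, hyz⟩ := Fintype.two_lt_card_iff.1 hc
  by_contra hall
  push Not at hall
  have hx := hall x.1 x.2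
  have hy := hall y.1 y.2
  have hz := hall z.1 z.2
  by_cases hx0 : x.1 = 0
  · have hy0 : y.1 ≠ 0 := fun e => hxy (Subtype.ext (hx0.trans e.symm))
    have hz0 : z.1 ≠ 0 := fun e => hxz (Subtype.ext (hx0.trans e.symm))
    exact hyz (Subtype.ext ((hy hy0).trans (hz hz0).symm))
  · by_cases hy0 : y.1 = 0
    · have hz0 : z.1 ≠ 0 := fun e => hyz (Subtype.ext (hy0.trans e.symm))
      exact hxz (Subtype.ext ((hx hx0).trans (hz hz0).symm))
    · exact hxy (Subtype.ext ((hx hx0).trans (hy hy0).symm))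

theorem card_ne_base_le : Nat.card {P : H.Pt // P ≠ H.base} ≤ h.q ^ 3 := by
  obtain ⟨k, hk, hk0, hk1⟩ := exists_kappa h
  obtain ⟨g0, hg0⟩ := H.lam_surj hk hk0
  have hx : ∀ P : {P : H.Pt // P ≠ H.base}, ∃ x : H.N, (x : G) ∈ H.D P.1 ∧ (x : G) ^ (h.q - 1) = 1 ∧
      (x : G) ≠ 1 ∧ H.el x * H.el x = k := by
    intro P
    obtain ⟨u, hu⟩ := H.exists_swapper P.2
    obtain ⟨x, hx, hxi, hxz⟩ := H.exists_inverted P.2 hu (H.N_conj_ZS g0.2 ⟨H.z0_mem, H.z0_order⟩)
    have hxq := H.inverted_pow P.2 hu hx hxi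
    have hl : H.lam ⟨x, H.D_le_N hx⟩ = k := by
      rw [← hg0]
      exact (H.lam_eq_iff _ _).2 (H.conj_eq_iff.1 hxz)
    have he : H.el ⟨x, H.D_le_N hx⟩ ^ (h.q - 1) = 1 := by
      have e : (⟨x, H.D_le_N hx⟩ : H.N) ^ (h.q - 1) = 1 := Subtype.ext (by simpa using hxq)
      have := congrArg H.elHom e
      rw [map_pow, map_one] at this
      simpa [Units.val_pow_eq_pow_val, elHom_val] using congrArg Units.val this
    have hq : H.el ⟨x, H.D_le_N hx⟩ ^ h.q = H.el ⟨x, H.D_le_N hx⟩ := by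
      conv_lhs => rw [show h.q = h.q - 1 + 1 by have := one_lt_q (h := h); omega]
      rw [pow_succ, he, one_mul]
    refine ⟨⟨x, H.D_le_N hx⟩, hx, hxq, fun e => hk1 ?_, ?_⟩
    · rw [← hl]
      have h1 : (H.lam ⟨x, H.D_le_N hx⟩) = H.lam 1 := (H.lam_eq_iff _ _).2 (by
        rw [show ((⟨x, H.D_le_N hx⟩ : H.N) : G) = 1 from e]; simp)
      rw [h1, lam]
      have : H.el 1 = 1 := (H.el_eq_one_iff 1).2 (one_mem _)
      rw [this, one_pow, one_mul]
    · rw [← hl, lam, hq]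
  choose x hxD hxq hx1 hxk using hx
  have hel : ∀ P Q, H.el (x P) = H.el (x Q) := by
    intro P Q
    have e : (H.el (x P) + H.el (x Q)) * (H.el (x P) + H.el (x Q)) = 0 := by
      linear_combination hxk P + hxk Q + (H.el (x P) * H.el (x Q) + k) * h.two
    linear_combination mul_self_eq_zero.1 e - (H.el (x Q)) * h.two
  rcases isEmpty_or_nonempty {P : H.Pt // P ≠ H.base} with he | ⟨⟨P0⟩⟩
  · simp
  have hS : ∀ P, (x P : G) * (x P0 : G)⁻¹ ∈ H.S := by
    intro P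
    refine (H.el_eq_one_iff (x P * (x P0)⁻¹)).1 ?_
    rw [← H.elHom_val, map_mul, map_inv]
    have : H.elHom (x P) = H.elHom (x P0) := Units.ext (hel P P0)
    rw [this, mul_inv_cancel, Units.val_one]
  rw [← H.card_S]
  refine Nat.card_le_card_of_injective (fun P => (⟨_, hS P⟩ : H.S)) fun P Q e => ?_
  have e' : (x P : G) = x Q := mul_right_cancel (congrArg Subtype.val e)
  rcases H.two_fixed Q.2 (hxD Q) (hxq Q) (hx1 Q) (R := P.1) (e' ▸ (hxD P).2) with h1 | h1
  · exact absurd h1 P.2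
  · exact Subtype.ext h1

/-- The Sylow 2-subgroup is regular on the other points. -/
theorem regular {P : H.Pt} (hP : P ≠ H.base) {R : H.Pt} (hR : R ≠ H.base) :
    ∃ x : h.UQ, H.ι x • P = R := by
  have hinj : Function.Injective (fun x : h.UQ => (⟨H.ι x • P, fun e => hP (by
      rw [← (H.fix_base).2 (H.S_le_N (H.mem_S_of x))] at e
      exact smul_left_cancel _ e)⟩ : {R : H.Pt // R ≠ H.base})) := by
    intro x y e
    have e' : (H.ι x⁻¹ * H.ι y) • P = P := by
      rw [mul_smul, map_inv, inv_smul_eq_iff]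
      exact (congrArg Subtype.val e).symm
    rw [← map_mul] at e'
    exact inv_mul_eq_one.1 (H.ι_inj ((H.semiregular (H.mem_S_of _) hP e').trans (map_one _).symm))
  have hbij := (Nat.bijective_iff_injective_and_card _).2 ⟨hinj,
    le_antisymm (Nat.card_le_card_of_injective _ hinj) (H.card_ne_base_le.trans (by rw [QField.UQ.card_eq]))⟩
  obtain ⟨x, hx⟩ := hbij.2 ⟨R, hR⟩
  exact ⟨x, congrArg Subtype.val hx⟩

theorem ι_smul_inj {P : H.Pt} (hP : P ≠ H.base) {x y : h.UQ} (e : H.ι x • P = H.ι y • P) : x = y := by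
  have e' : H.ι (x⁻¹ * y) • P = P := by rw [map_mul, mul_smul, map_inv, inv_smul_eq_iff, e]
  exact inv_mul_eq_one.1 (H.ι_inj ((H.semiregular (H.mem_S_of _) hP e').trans (map_one _).symm))

theorem ι_smul_ne {P : H.Pt} (hP : P ≠ H.base) (x : h.UQ) : H.ι x • P ≠ H.base := fun e => hP (by
  rw [← (H.fix_base).2 (H.S_le_N (H.mem_S_of x))] at e
  exact smul_left_cancel _ e)

theorem card_Pt : Nat.card H.Pt = h.q ^ 3 + 1 := by
  classical
  obtain ⟨P, hP⟩ := H.exists_ne_base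
  have e : Option h.UQ ≃ H.Pt := Equiv.ofBijective
    (fun o => match o with | none => H.base | some x => H.ι x • P)
    ⟨by
      rintro (_ | x) (_ | y) e
      · rfl
      · exact absurd e.symm (H.ι_smul_ne hP y)
      · exact absurd e (H.ι_smul_ne hP x)
      · exact congrArg some (H.ι_smul_inj hP e),
    fun R => by
      by_cases hR : R = H.base
      · exact ⟨none, hR.symm⟩
      · obtain ⟨x, hx⟩ := H.regular hP hR
        exact ⟨some x, hx⟩⟩
  rw [← Nat.card_congr e, Finite.card_option, QField.UQ.card_eq]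

theorem card_G : Nat.card G = (h.q ^ 3 + 1) * (h.q ^ 3 * (h.q ^ 2 - 1)) := by
  rw [← H.card_Pt, ← H.card_N]
  exact Subgroup.card_eq_card_quotient_mul_card_subgroup H.N

/-- A pair stabilizer realises every scalar exactly once. -/
theorem exists_D {P : H.Pt} (hP : P ≠ H.base) (l : Fˣ) :
    ∃ d : H.N, (d : G) ∈ H.D P ∧ H.elHom d = l := by
  let f : (H.D P).subgroupOf H.N →* Fˣ := H.elHom.comp (Subgroup.subtype _)
  have hinj : Function.Injective f := by
    rw [← MonoidHom.ker_eq_bot_iff, eq_bot_iff]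
    intro d hd
    have he : H.el d.1 = 1 := by
      rw [← H.elHom_val, show H.elHom d.1 = 1 from hd, Units.val_one]
    exact mem_bot.2 (Subtype.ext (Subtype.ext
      (H.D_S hP (mem_subgroupOf.1 d.2) ((H.el_eq_one_iff d.1).1 he))))
  have hsplit : Nat.card H.N ≤ Nat.card H.S * Nat.card ((H.D P).subgroupOf H.N) := by
    have hdec : ∀ g : H.N, ∃ x : h.UQ, (H.ι x)⁻¹ * (g : G) ∈ H.D P := by
      intro g
      have hgP : (g : G) • P ≠ H.base := fun e => hP (by
        rw [← (H.fix_base).2 g.2] at e; exact smul_left_cancel _ e)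
      obtain ⟨x, hx⟩ := H.regular hP hgP
      refine ⟨x, H.fix_base.2 (mul_mem (inv_mem (H.S_le_N (H.mem_S_of x))) g.2), ?_⟩
      show ((H.ι x)⁻¹ * (g : G)) • P = P
      rw [mul_smul, ← hx, inv_smul_smul]
    choose x hx using hdec
    rw [← Nat.card_prod]
    refine Nat.card_le_card_of_injective (fun g => ((⟨_, H.mem_S_of (x g)⟩ : H.S),
      (⟨⟨_, H.D_le_N (hx g)⟩, mem_subgroupOf.2 (hx g)⟩ : (H.D P).subgroupOf H.N))) ?_
    intro g k e
    have e1 : H.ι (x g) = H.ι (x k) := congrArg (fun p => (p.1 : G)) e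
    have e2 : (H.ι (x g))⁻¹ * (g : G) = (H.ι (x k))⁻¹ * (k : G) := congrArg (fun p => ((p.2 : H.N) : G)) e
    rw [e1] at e2
    exact Subtype.ext (mul_left_cancel e2)
  rw [H.card_N, H.card_S] at hsplit
  have hge := Nat.le_of_mul_le_mul_left hsplit (pow_pos (by have := one_lt_q (h := h); omega) 3)
  have hle := Nat.card_le_card_of_injective f hinj
  rw [Nat.card_units, Nat.card_eq_fintype_card (α := F), h.card] at hle
  have hbij := (Nat.bijective_iff_injective_and_card f).2 ⟨hinj, by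
    rw [Nat.card_units, Nat.card_eq_fintype_card (α := F), h.card]; exact le_antisymm hle hge⟩
  obtain ⟨d, hd⟩ := hbij.2 l
  exact ⟨d.1, mem_subgroupOf.1 d.2, hd⟩

end Hypo

end CfsgLib.Recog.EvenUnitary
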