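import Cfsg.Agent.Lib.Recog.EvenUnitary.Local

/-!
The action on the Sylow 2-subgroups: every pair of points is interchanged by exactly `q - 1`
involutions (S2212).
-/

set_option autoImplicit false
set_option linter.unusedSectionVars false

namespace CfsgLib.Recog.EvenUnitary

open CfsgLib.Chev.PSUSyl Subgroup

universe u v

variable {F : Type v} [Field F] [Fintype F] {h : QField F} {G : Type u} [Group G] [Finite G]

namespace Hypo

variable (H : Hypo h G)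
include H

/-- The points. -/
abbrev Pt : Type u := G ⧸ H.N

/-- The point of `S`. -/
def base : H.Pt := ((1 : G) : G ⧸ H.N)

theorem fix_iff {u g : G} : u • ((g : G ⧸ H.N)) = (g : G ⧸ H.N) ↔ g⁻¹ * u * g ∈ H.N := by
  rw [MulAction.Quotient.smul_coe, smul_eq_mul, QuotientGroup.eq]
  constructor
  · intro e
    have := inv_mem e
    rwa [show ((u * g)⁻¹ * g)⁻¹ = g⁻¹ * u * g by group] at this
  · intro e
    have := inv_mem e
    rwa [show (g⁻¹ * u * g)⁻¹ = (u * g)⁻¹ * g by group] at this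

theorem fix_base {g : G} : g • H.base = H.base ↔ g ∈ H.N := by
  rw [base, H.fix_iff, inv_one, one_mul, mul_one]

theorem fix_conj {g u : G} {P : H.Pt} : (g * u * g⁻¹) • (g • P) = g • P ↔ u • P = P := by
  rw [mul_smul, mul_smul, inv_smul_smul, smul_left_cancel_iff]

theorem semiregular {s : G} (hs : s ∈ H.S) {P : H.Pt} (hP : P ≠ H.base) (e : s • P = P) : s = 1 := by
  by_contra h1
  obtain ⟨g, rfl⟩ := Quotient.exists_rep P
  change s • ((g : G ⧸ H.N)) = (g : G ⧸ H.N) at e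
  have hN := H.fix_iff.1 e
  obtain ⟨k, hk⟩ := H.isPGroup_S ⟨s, hs⟩
  have hS : g⁻¹ * s * g ∈ H.S := H.two_mem_of_N hN (k := k) (by
    conv_lhs => rw [show g⁻¹ * s * g = g⁻¹ * s * g⁻¹⁻¹ by rw [inv_inv]]
    rw [conj_pow, show s ^ 2 ^ k = 1 from congrArg Subtype.val hk, mul_one, mul_inv_cancel])
  have hg : g⁻¹ ∈ H.N := H.ti hs h1 (by rw [inv_inv]; exact hS)
  exact hP (QuotientGroup.eq.2 (by rw [mul_one]; exact hg))

theorem invol_unique {u : G} (hu : orderOf u = 2) {P Q : H.Pt} (hP : u • P = P) (hQ : u • Q = Q) :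
    P = Q := by
  obtain ⟨g, rfl⟩ := Quotient.exists_rep P
  change u • ((g : G ⧸ H.N)) = (g : G ⧸ H.N) at hP
  show (g : G ⧸ H.N) = Q
  have hord : orderOf (g⁻¹ * u * g⁻¹⁻¹) = 2 := by
    rw [← MulAut.conj_apply]; exact ((MulAut.conj g⁻¹).orderOf_eq _).trans hu
  rw [inv_inv] at hord
  have hS := H.invol_mem_of_N (H.fix_iff.1 hP) hord
  have hfix : (g⁻¹ * u * g) • (g⁻¹ • Q) = g⁻¹ • Q := by
    rw [← inv_inv g, inv_inv g⁻¹, H.fix_conj]; exact hQ
  by_contra hne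
  have hne' : g⁻¹ • Q ≠ H.base := by
    intro e
    apply hne
    rw [inv_smul_eq_iff, base, MulAction.Quotient.smul_coe, smul_eq_mul, mul_one] at e
    exact e.symm
  rw [H.semiregular hS hne' hfix, orderOf_one] at hord
  omega

/-- The stabilizer of a pair of points. -/
def D (P : H.Pt) : Subgroup G := MulAction.stabilizer G H.base ⊓ MulAction.stabilizer G P

theorem D_le_N {P : H.Pt} {d : G} (hd : d ∈ H.D P) : d ∈ H.N := H.fix_base.1 hd.1

theorem D_S {P : H.Pt} (hP : P ≠ H.base) {d : G} (hd : d ∈ H.D P) (hS : d ∈ H.S) : d = 1 :=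
  H.semiregular hS hP hd.2

theorem D_pow {P : H.Pt} (hP : P ≠ H.base) {d : G} (hd : d ∈ H.D P) : d ^ (h.q ^ 2 - 1) = 1 :=
  H.D_S hP (pow_mem hd _) (H.pow_sq_mem_S (H.D_le_N hd))

omit H [Finite G] in
theorem odd_sq_sub_one : Odd (h.q ^ 2 - 1) := by
  rw [show h.q ^ 2 - 1 = (h.q - 1) * (h.q + 1) by rw [mul_comm, ← Nat.sq_sub_sq, one_pow]]
  exact odd_q_sub_one.mul odd_q_add_one

omit H [Finite G] in
theorem coprime_pm : (h.q - 1).Coprime (h.q + 1) :=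
  Nat.coprime_of_dvd fun p hp h1 h2 => by
    have h3 : p ∣ 2 := by
      have := Nat.dvd_sub h2 h1
      rwa [show h.q + 1 - (h.q - 1) = 2 by have := one_lt_q (h := h); omega] at this
    have := (Nat.prime_dvd_prime_iff_eq hp Nat.prime_two).1 h3
    subst this
    exact (Nat.two_dvd_ne_zero.2 (Nat.odd_iff.1 odd_q_add_one)) h2

theorem D_C {P : H.Pt} (hP : P ≠ H.base) {d : G} (hd : d ∈ H.D P) :
    d ∈ H.C ↔ d ^ (h.q + 1) = 1 := by
  constructor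
  · exact fun hc => H.D_S hP (pow_mem hd _) (H.pow_mem_S hc)
  · intro e
    obtain ⟨m, hm⟩ := exists_pow_eq_self_of_coprime (x := d) (n := h.q - 1)
      ((coprime_pm (h := h)).of_dvd_right (orderOf_dvd_of_pow_eq_one e))
    rw [← hm]
    exact pow_mem (H.pow_mem_C (H.D_le_N hd)) m

theorem C_comm_mem_S {a b : G} (ha : a ∈ H.C) (hb : b ∈ H.C) : a * b * (b * a)⁻¹ ∈ H.S := by
  obtain ⟨x, c, rfl⟩ := H.mem_C.1 ha
  obtain ⟨y, d, rfl⟩ := H.mem_C.1 hb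
  rw [H.mul_pair, H.mul_pair, mul_comm d c, mul_inv_rev, mul_assoc, mul_inv_cancel_left, ← map_inv,
    ← map_mul]
  exact H.mem_S_of _

theorem DC_comm {P : H.Pt} (hP : P ≠ H.base) {a b : G} (ha : a ∈ H.D P) (hb : b ∈ H.D P)
    (hac : a ∈ H.C) (hbc : b ∈ H.C) : a * b = b * a :=
  mul_inv_eq_one.1 (H.D_S hP (mul_mem (mul_mem ha hb) (inv_mem (mul_mem hb ha)))
    (H.C_comm_mem_S hac hbc))

/-- The involutions taking the base point to `P`. -/
def Sw (P : H.Pt) : Set G := {u | orderOf u = 2 ∧ u • H.base = P}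

theorem Sw_back {P : H.Pt} {u : G} (hu : u ∈ H.Sw P) : u • P = H.base := by
  rw [← hu.2, ← mul_smul, sq_eq_one_of_orderOf hu.1, one_smul]

theorem Sw_conj_D {P : H.Pt} {u : G} (hu : u ∈ H.Sw P) {d : G} (hd : d ∈ H.D P) :
    u * d * u⁻¹ ∈ H.D P := by
  constructor
  · show (u * d * u⁻¹) • H.base = H.base
    rw [mul_smul, mul_smul, inv_eq_self_of_orderOf hu.1, hu.2, show d • P = P from hd.2, H.Sw_back hu]
  · show (u * d * u⁻¹) • P = P
    rw [mul_smul, mul_smul, inv_eq_self_of_orderOf hu.1, H.Sw_back hu,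
      show d • H.base = H.base from hd.1, hu.2]

theorem Sw_fix_C {P : H.Pt} (hP : P ≠ H.base) {u : G} (hu : u ∈ H.Sw P) {a : G} (ha : a ∈ H.D P)
    (hc : a ∈ H.C) : u * a * u⁻¹ = a := by
  have ha' := H.Sw_conj_D hu ha
  have hc' : u * a * u⁻¹ ∈ H.C := (H.D_C hP ha').2 (by
    rw [conj_pow, (H.D_C hP ha).1 hc, mul_one, mul_inv_cancel])
  have hb : a⁻¹ * (u * a * u⁻¹) ∈ H.D P := mul_mem (inv_mem ha) ha'
  suffices hkey : u * (a⁻¹ * (u * a * u⁻¹)) * u⁻¹ = (a⁻¹ * (u * a * u⁻¹))⁻¹ from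
    (inv_mul_eq_one.1 (H.invert_trivial (v := H.z0) hkey (odd_sq_sub_one (h := h))
      (H.D_pow hP hb) H.z0_order (mem_centralizer_singleton_iff.1 (mul_mem (inv_mem hc) hc')))).symm
  have hcomm := H.DC_comm hP (inv_mem ha) ha' (inv_mem hc) hc'
  have hinv := inv_eq_self_of_orderOf hu.1
  have huu := sq_eq_one_of_orderOf hu.1
  calc u * (a⁻¹ * (u * a * u⁻¹)) * u⁻¹
      = u * (u * a * u⁻¹ * a⁻¹) * u⁻¹ := by rw [hcomm]
    _ = a * u⁻¹ * a⁻¹ * u⁻¹ := by rw [← mul_assoc, ← mul_assoc, ← mul_assoc, huu, one_mul]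
    _ = a * (u * a⁻¹ * u⁻¹) := by rw [hinv]; group
    _ = (u * a * u⁻¹ * a⁻¹)⁻¹ := by group
    _ = (a⁻¹ * (u * a * u⁻¹))⁻¹ := by rw [hcomm]

theorem Sw_diff {P : H.Pt} {u0 u : G} (h0 : u0 ∈ H.Sw P) (hu : u ∈ H.Sw P) :
    u * u0 ∈ H.D P ∧ u0 * (u * u0) * u0⁻¹ = (u * u0)⁻¹ := by
  refine ⟨⟨?_, ?_⟩, ?_⟩
  · show (u * u0) • H.base = H.base
    rw [mul_smul, h0.2, H.Sw_back hu]
  · show (u * u0) • P = P
    rw [mul_smul, H.Sw_back h0, hu.2]
  · rw [mul_inv_rev, inv_eq_self_of_orderOf hu.1, inv_eq_self_of_orderOf h0.1]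
    rw [mul_assoc u0, mul_assoc, sq_eq_one_of_orderOf h0.1, mul_one]

theorem inverted_inj {P : H.Pt} (hP : P ≠ H.base) {u0 x y : G} (h0 : u0 ∈ H.Sw P) (hx : x ∈ H.D P)
    (hy : y ∈ H.D P) (hxi : u0 * x * u0⁻¹ = x⁻¹) (hyi : u0 * y * u0⁻¹ = y⁻¹)
    (hc : x⁻¹ * y ∈ H.C) : x = y := by
  have ha : x⁻¹ * y ∈ H.D P := mul_mem (inv_mem hx) hy
  have hfix := H.Sw_fix_C hP h0 ha hc
  set a := x⁻¹ * y with hadef
  have hy' : y = x * a := by rw [hadef, mul_inv_cancel_left]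
  have h1 : u0 * y * u0⁻¹ = x⁻¹ * a := by
    rw [hy', ← hxi]
    calc u0 * (x * a) * u0⁻¹ = u0 * x * u0⁻¹ * (u0 * a * u0⁻¹) := by group
      _ = _ := by rw [hfix]
  rw [hyi, hy', mul_inv_rev] at h1
  -- `x` inverts `a`
  have h2 : x⁻¹ * a * x = a⁻¹ := by rw [← h1]; group
  have hxo := H.D_pow hP hx
  have hao := H.D_pow hP ha
  obtain ⟨i, hi⟩ := odd_sq_sub_one (h := h)
  rw [hi] at hxo hao
  have hsq : Commute (x⁻¹ ^ 2) a := by
    refine mul_inv_eq_iff_eq_mul.1 ?_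
    calc x⁻¹ ^ 2 * a * (x⁻¹ ^ 2)⁻¹ = x⁻¹ * (x⁻¹ * a * x) * x := by
          simp [pow_two, mul_assoc]
      _ = x⁻¹ * a⁻¹ * x := by rw [h2]
      _ = (x⁻¹ * a * x)⁻¹ := by group
      _ = a := by rw [h2, inv_inv]
  have hx1 : Commute x a := by
    have := hsq.pow_left (i + 1)
    rw [← pow_mul, show 2 * (i + 1) = 2 * i + 1 + 1 by ring, pow_succ, inv_pow, hxo, inv_one, one_mul] at this
    exact Commute.inv_left_iff.1 this
  have ha2 : a ^ 2 = 1 := by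
    rw [mul_assoc, ← hx1.eq, inv_mul_cancel_left] at h2
    rw [pow_two]
    conv_lhs => arg 2; rw [h2]
    exact mul_inv_cancel a
  have : a = 1 := eq_one_of_pow_two_pow (k := 1) (by exact ⟨i, rfl⟩) (by rw [pow_one]; exact ha2) hao
  rw [hy', this, mul_one]

theorem inverted_z0 {P : H.Pt} {x : G} (hx : x ∈ H.D P) : x * H.z0 * x⁻¹ ∈ H.ZS :=
  H.N_conj_ZS (H.D_le_N hx) ⟨H.z0_mem, H.z0_order⟩

/-- The map to the involutions of `S`. -/
def swMap {P : H.Pt} {u0 : G} (h0 : u0 ∈ H.Sw P) (u : H.Sw P) : H.ZS :=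
  ⟨_, H.inverted_z0 (H.Sw_diff h0 u.2).1⟩

theorem swMap_inj {P : H.Pt} (hP : P ≠ H.base) {u0 : G} (h0 : u0 ∈ H.Sw P) :
    Function.Injective (H.swMap h0) := by
  intro u u' e
  refine Subtype.ext (mul_right_cancel (b := u0) ?_)
  exact H.inverted_inj hP h0 (H.Sw_diff h0 u.2).1 (H.Sw_diff h0 u'.2).1 (H.Sw_diff h0 u.2).2
    (H.Sw_diff h0 u'.2).2 (H.conj_eq_iff.1 (congrArg Subtype.val e))

theorem card_Sw_le {P : H.Pt} (hP : P ≠ H.base) : Nat.card (H.Sw P) ≤ h.q - 1 := by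
  rcases isEmpty_or_nonempty (H.Sw P) with he | ⟨⟨u0, h0⟩⟩
  · simp
  · rw [← H.card_ZS]
    exact Nat.card_le_card_of_injective _ (H.swMap_inj hP h0)

theorem card_invol : Nat.card {u : G // orderOf u = 2} = Nat.card H.Pt * (h.q - 1) := by
  have e : Nat.card {u : G // orderOf u = 2} = H.C.index := by
    refine (Nat.card_congr (Equiv.ofBijective (Quotient.lift
      (fun g : G => (⟨g * H.z0 * g⁻¹, by
        rw [← MulAut.conj_apply]; exact ((MulAut.conj g).orderOf_eq _).trans H.z0_order⟩ :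
          {u : G // orderOf u = 2})) ?_) ⟨?_, ?_⟩)).symm
    · intro a b hab
      exact Subtype.ext (H.conj_eq_iff.2 (QuotientGroup.leftRel_apply.1 hab))
    · rintro ⟨a⟩ ⟨b⟩ e
      exact Quotient.sound (QuotientGroup.leftRel_apply.2 (H.conj_eq_iff.1 (congrArg Subtype.val e)))
    · rintro ⟨s, hs⟩
      obtain ⟨g, hg⟩ := isConj_iff.1 (H.conj_all _ _ H.z0_order hs)
      exact ⟨⟦g⟧, Subtype.ext hg⟩
  rw [e, ← Subgroup.relIndex_mul_index H.C_le_N, Subgroup.relIndex, H.index_C_N, mul_comm]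
  rfl

theorem card_Sw {P : H.Pt} (hP : P ≠ H.base) : Nat.card (H.Sw P) = h.q - 1 := by
  classical
  haveI := Fintype.ofFinite H.Pt
  have e1 : {u : G // orderOf u = 2} ≃ Σ P : H.Pt, H.Sw P :=
    { toFun := fun u => ⟨u.1 • H.base, u.1, u.2, rfl⟩
      invFun := fun p => ⟨p.2.1, p.2.2.1⟩
      left_inv := fun _ => rfl
      right_inv := fun ⟨P, u, h1, h2⟩ => by subst h2; rfl }
  have hsum : ∑ P : H.Pt, Nat.card (H.Sw P) = ∑ _P : H.Pt, (h.q - 1) := by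
    rw [← Nat.card_sigma, ← Nat.card_congr e1, H.card_invol, Finset.sum_const, Finset.card_univ,
      ← Nat.card_eq_fintype_card, smul_eq_mul]
  have hb : Nat.card (H.Sw H.base) = h.q - 1 := by
    rw [← H.card_ZS]
    congr 1
    refine congrArg _ (Set.ext fun u => ⟨fun hu => ⟨H.invol_mem_of_N (H.fix_base.1 hu.2) hu.1, hu.1⟩,
      fun hu => ⟨hu.2, H.fix_base.2 (H.S_le_N hu.1)⟩⟩)
  refine (Finset.sum_eq_sum_iff_of_le (fun Q _ => ?_)).1 hsum P (Finset.mem_univ _)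
  by_cases hQ : Q = H.base
  · exact le_of_eq (hQ ▸ hb)
  · exact H.card_Sw_le hQ

theorem exists_swapper {P : H.Pt} (hP : P ≠ H.base) : ∃ u, u ∈ H.Sw P := by
  have h1 := H.card_Sw hP
  by_contra he
  push Not at he
  rw [Nat.card_eq_zero.2 (Or.inl ⟨fun u => he _ u.2⟩)] at h1
  have := one_lt_q (h := h)
  omega

theorem exists_inverted {P : H.Pt} (hP : P ≠ H.base) {u0 : G} (h0 : u0 ∈ H.Sw P) {z : G}
    (hz : z ∈ H.ZS) : ∃ x ∈ H.D P, u0 * x * u0⁻¹ = x⁻¹ ∧ x * H.z0 * x⁻¹ = z := by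
  have hbij := (Nat.bijective_iff_injective_and_card (H.swMap h0)).2
    ⟨H.swMap_inj hP h0, by rw [H.card_Sw hP, H.card_ZS]⟩
  obtain ⟨u, hu⟩ := hbij.2 ⟨z, hz⟩
  exact ⟨u.1 * u0, (H.Sw_diff h0 u.2).1, (H.Sw_diff h0 u.2).2, congrArg Subtype.val hu⟩

end Hypo

end CfsgLib.Recog.EvenUnitary
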