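import Cfsg.Agent.Lib.Recog.EvenUnitary.Pairs
import Cfsg.Agent.Lib.Recog.EvenUnitary.Field

/-!
The normalizer of the Sylow 2-subgroup acts linearly on its Frattini quotient (S2212).
-/

set_option autoImplicit false
set_option linter.unusedSectionVars false

namespace CfsgLib.Recog.EvenUnitary

open CfsgLib.Chev.PSUSyl Subgroup

universe u v

variable {F : Type v} [Field F] [Fintype F] {h : QField F} {G : Type u} [Group G] [Finite G]

theorem norm_mem_fixed (a : F) : (a * a ^ h.q) ^ h.q = a * a ^ h.q := h.norm_fixed a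

theorem uq_sq (x : h.UQ) : (x * x).a = 0 ∧ (x * x).b = x.a * x.a ^ h.q := by
  refine ⟨h.self_add x.a, ?_⟩
  rw [QField.UQ.mul_b, h.self_add, zero_add]

theorem exists_sqrt_fixed (h : QField F) {b : F} (hb : b ^ h.q = b) : ∃ r : F, r ^ h.q = r ∧ r * r = b := by
  haveI := charP_two h
  obtain ⟨r, hr⟩ := FiniteField.isSquare_of_char_two (ringChar.eq F 2) b
  refine ⟨r, ?_, hr.symm⟩
  have e : (r ^ h.q + r) * (r ^ h.q + r) = 0 := by
    have : (r * r) ^ h.q = r * r := by rw [← hr]; exact hb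
    rw [mul_pow] at this
    linear_combination this + (r * r + r ^ h.q * r) * h.two
  have := mul_self_eq_zero.1 e
  linear_combination this - r * h.two

namespace Hypo

variable (H : Hypo h G)
include H

theorem exists_act (g : H.N) (x : h.UQ) : ∃ y, H.ι y = (g : G) * H.ι x * (g : G)⁻¹ :=
  (mem_normalizer_iff.1 g.2 _).1 (H.mem_S_of x)

/-- The action on coordinates. -/
noncomputable def act (g : H.N) (x : h.UQ) : h.UQ := (H.exists_act g x).choose

theorem act_spec (g : H.N) (x : h.UQ) : H.ι (H.act g x) = (g : G) * H.ι x * (g : G)⁻¹ :=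
  (H.exists_act g x).choose_spec

theorem act_mul (g : H.N) (x y : h.UQ) : H.act g (x * y) = H.act g x * H.act g y := by
  apply H.ι_inj
  rw [map_mul, H.act_spec, H.act_spec, H.act_spec, map_mul]
  group

theorem act_comp (g k : H.N) (x : h.UQ) : H.act (g * k) x = H.act g (H.act k x) := by
  apply H.ι_inj
  rw [H.act_spec, H.act_spec, H.act_spec, Subgroup.coe_mul]
  group

theorem act_one (g : H.N) : H.act g 1 = 1 := by
  apply H.ι_inj
  rw [H.act_spec, map_one, mul_one, mul_inv_cancel]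

theorem act_inj (g : H.N) : Function.Injective (H.act g) := by
  intro x y e
  apply H.ι_inj
  have := congrArg H.ι e
  rw [H.act_spec, H.act_spec] at this
  exact mul_left_cancel (mul_right_cancel this)

theorem act_central (g : H.N) {x : h.UQ} (hx : x.a = 0) : (H.act g x).a = 0 :=
  QField.UQ.of_inv (by rw [← H.act_mul, QField.UQ.sq_of_center hx, H.act_one])

/-- A lift of a first coordinate. -/
noncomputable def lift (a : F) : h.UQ := (QField.UQ.exists_mk (h := h) a).choose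

omit H [Finite G] in
theorem lift_a (a : F) : (lift (h := h) a).a = a := (QField.UQ.exists_mk (h := h) a).choose_spec

/-- The action on the first coordinate. -/
noncomputable def L (g : H.N) (a : F) : F := (H.act g (lift a)).a

theorem act_a (g : H.N) (x : h.UQ) : (H.act g x).a = H.L g x.a := by
  have hz : ((lift x.a)⁻¹ * x).a = 0 := by
    show (lift (h := h) x.a).a + x.a = 0
    rw [lift_a, h.self_add]
  have e : H.act g x = H.act g (lift x.a) * H.act g ((lift x.a)⁻¹ * x) := by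
    rw [← H.act_mul, mul_inv_cancel_left]
  rw [e, QField.UQ.mul_a, H.act_central g hz, add_zero]
  rfl

theorem L_add (g : H.N) (a b : F) : H.L g (a + b) = H.L g a + H.L g b := by
  have := H.act_a g (lift a * lift b)
  rw [H.act_mul, QField.UQ.mul_a, QField.UQ.mul_a, lift_a, lift_a] at this
  exact this.symm

theorem L_zero (g : H.N) : H.L g 0 = 0 := by
  have := H.act_a g 1
  rw [H.act_one] at this
  exact this.symm

theorem L_inj (g : H.N) {a : F} (ha : H.L g a = 0) : a = 0 := by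
  have h1 : (H.act g (lift a)) * (H.act g (lift a)) = 1 := QField.UQ.sq_of_center ha
  rw [← H.act_mul, ← H.act_one g] at h1
  have := QField.UQ.of_inv (H.act_inj g h1)
  rwa [lift_a] at this

theorem L_twist (g : H.N) (c : ↥(mu h)) :
    ∃ d : ↥(mu h), ∀ a, H.L g (((c : Fˣ) : F) * a) = ((d : Fˣ) : F) * H.L g a := by
  obtain ⟨y, d, hyd⟩ := H.mem_C.1 (H.C_normal_N g.2 (H.mem_C.2 ⟨1, c, by rw [map_one, one_mul]⟩) :
    (g : G) * H.w c * (g : G)⁻¹ ∈ H.C)
  refine ⟨d, fun a => ?_⟩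
  have key : H.act g (twist c (lift a)) = y * twist d (H.act g (lift a)) * y⁻¹ := by
    apply H.ι_inj
    rw [H.act_spec, map_mul, map_mul, map_inv, ← H.conj, ← H.conj, H.act_spec]
    have e : H.w d = (H.ι y)⁻¹ * ((g : G) * H.w c * (g : G)⁻¹) := by rw [hyd, inv_mul_cancel_left]
    rw [e]
    group
  have h1 := congrArg QField.UQ.a key
  have h2 : (twist c (lift a)).a = ((c : Fˣ) : F) * a := by
    show _ * (lift (h := h) a).a = _
    rw [lift_a]
  rw [H.act_a, h2, QField.UQ.mul_a, QField.UQ.mul_a] at h1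
  rw [h1]
  show y.a + ((d : Fˣ) : F) * (H.act g (lift a)).a + y.a = _
  linear_combination (norm := (simp only [L]; ring)) (y.a) * h.two

/-- The scalar part. -/
noncomputable def el (g : H.N) : F := H.L g 1

theorem el_ne_zero (g : H.N) : H.el g ≠ 0 := fun e => one_ne_zero (H.L_inj g e)

/-- The field part. -/
noncomputable def sig (g : H.N) (t : F) : F := H.L g t / H.el g

theorem L_semilinear (g : H.N) (t a : F) : H.L g (t * a) = H.sig g t * H.L g a := by
  have hne := H.el_ne_zero g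
  revert a
  refine eq_univ_of_mu (h := h) (T := {t : F | ∀ a, H.L g (t * a) = H.sig g t * H.L g a}) ?_ ?_ ?_ ?_ t
  · intro a; simp [sig, H.L_zero]
  · intro s hs t ht a
    rw [add_mul, H.L_add, hs, ht, sig, sig, sig, H.L_add, add_div, add_mul]
  · intro s hs t ht a
    have e : H.sig g (s * t) = H.sig g s * H.sig g t := by
      rw [sig, hs t, sig, sig]
      field_simp
    rw [mul_assoc, hs, ht, e, mul_assoc]
  · intro c a
    obtain ⟨d, hd⟩ := H.L_twist g c
    rw [hd, sig]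
    congr 1
    have := hd 1
    rw [mul_one] at this
    rw [this, el, mul_div_assoc, div_self (show H.L g 1 ≠ 0 from hne), mul_one]

/-- The field part as a ring map. -/
noncomputable def sigHom (g : H.N) : F →+* F where
  toFun := H.sig g
  map_one' := div_self (H.el_ne_zero g)
  map_mul' s t := by
    have := H.el_ne_zero g
    rw [sig, H.L_semilinear g s t, sig, sig]
    field_simp
  map_zero' := by rw [sig, H.L_zero, zero_div]
  map_add' s t := by rw [sig, sig, sig, H.L_add, add_div]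

theorem sigHom_apply (g : H.N) (t : F) : H.sigHom g t = H.sig g t := rfl

theorem L_eq (g : H.N) (a : F) : H.L g a = H.el g * H.sigHom g a := by
  rw [sigHom_apply, sig, mul_div_cancel₀ _ (H.el_ne_zero g)]

/-- The scalar on the centre. -/
noncomputable def lam (g : H.N) : F := H.el g * H.el g ^ h.q

omit H [Finite G] in
theorem central_ext {x : h.UQ} {b : F} (ha : x.a = 0) (hb : x.b = b) (hbf : b ^ h.q = b) :
    x = (⟨0, b, by simp [zero_pow q_ne_zero, hbf, h.self_add]⟩ : h.UQ) := QField.UQ.ext ha hb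

theorem act_b (g : H.N) {x : h.UQ} (hx : x.a = 0) :
    (H.act g x).b = H.lam g * H.sigHom g x.b := by
  obtain ⟨r, hr, hrr⟩ := exists_sqrt_fixed h (QField.UQ.b_fixed hx)
  have hy : lift r * lift r = x := by
    obtain ⟨h1, h2⟩ := uq_sq (lift (h := h) r)
    refine QField.UQ.ext (h1.trans hx.symm) (h2.trans ?_)
    rw [lift_a, hr, hrr]
  rw [← hy, H.act_mul, (uq_sq _).2, (uq_sq _).2, H.act_a, lift_a, H.L_eq, lam, mul_pow, ← map_pow, hr,
    map_mul]
  ring

theorem lam_fixed (g : H.N) : H.lam g ^ h.q = H.lam g ∧ H.lam g ≠ 0 :=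
  ⟨h.norm_fixed _, mul_ne_zero (H.el_ne_zero g) (pow_ne_zero _ (H.el_ne_zero g))⟩

theorem act_zOne (g : H.N) : H.act g (zOne h) = (⟨0, H.lam g, by
    simp [zero_pow q_ne_zero, (H.lam_fixed g).1, h.self_add]⟩ : h.UQ) := by
  refine central_ext (H.act_central g rfl) ?_ (H.lam_fixed g).1
  rw [H.act_b g rfl]
  show _ * H.sigHom g 1 = _
  rw [map_one, mul_one]

theorem conj_z0 (g : H.N) : (g : G) * H.z0 * (g : G)⁻¹ = H.ι (H.act g (zOne h)) :=
  (H.act_spec g _).symm

theorem lam_eq_iff (g k : H.N) : H.lam g = H.lam k ↔ (g : G)⁻¹ * (k : G) ∈ H.C := by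
  rw [← H.conj_eq_iff, H.conj_z0, H.conj_z0, H.ι_inj.eq_iff, H.act_zOne, H.act_zOne,
    QField.UQ.ext_iff]
  simp

theorem act_C {c : H.N} (hc : (c : G) ∈ H.C) {x : h.UQ} (hx : x.a = 0) : H.act c x = x := by
  rcases eq_or_ne x 1 with rfl | hx1
  · exact H.act_one c
  apply H.ι_inj
  rw [H.act_spec]
  have hz : H.ι x ∈ H.S ∧ orderOf (H.ι x) = 2 := ⟨H.mem_S_of x, orderOf_eq_prime
    (by rw [pow_two, ← map_mul, QField.UQ.sq_of_center hx, map_one])
    (fun e => hx1 (H.ι_inj (e.trans (map_one _).symm)))⟩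
  rw [← H.invol_cent hz.1 hz.2, mem_centralizer_singleton_iff] at hc
  exact mul_inv_eq_iff_eq_mul.2 hc

theorem sig_C {c : H.N} (hc : (c : G) ∈ H.C) {b : F} (hb : b ^ h.q = b) : H.sigHom c b = b := by
  let x : h.UQ := ⟨0, b, by simp [zero_pow q_ne_zero, hb, h.self_add]⟩
  have h1 := H.act_b c (x := x) rfl
  rw [H.act_C hc rfl] at h1
  have h2 := H.act_b c (x := zOne h) rfl
  rw [H.act_C hc rfl] at h2
  change (1 : F) = H.lam c * H.sigHom c 1 at h2
  rw [map_one, mul_one] at h2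
  rw [← h2, one_mul] at h1
  exact h1.symm

theorem exists_ne_base : ∃ P : H.Pt, P ≠ H.base := by
  by_contra he
  push Not at he
  refine H.not_normal ⟨fun s hs g => (mem_normalizer_iff.1 ?_ s).1 hs⟩
  exact H.fix_base.1 (he _)

/-- The quotient of the normalizer by the centralizer is abelian. -/
theorem comm_mem_C (g k : H.N) : ((k : G) * g)⁻¹ * ((g : G) * k) ∈ H.C := by
  obtain ⟨P, hP⟩ := H.exists_ne_base
  obtain ⟨u, hu⟩ := H.exists_swapper hP
  have hrep : ∀ g : H.N, ∃ x ∈ H.D P, u * x * u⁻¹ = x⁻¹ ∧ x⁻¹ * (g : G) ∈ H.C := by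
    intro g
    obtain ⟨x, hx, hxi, hxz⟩ := H.exists_inverted hP hu (H.N_conj_ZS g.2 ⟨H.z0_mem, H.z0_order⟩)
    exact ⟨x, hx, hxi, H.conj_eq_iff.1 hxz⟩
  obtain ⟨x, hx, hxi, hxg⟩ := hrep g
  obtain ⟨y, hy, hyi, hyk⟩ := hrep k
  obtain ⟨z, hz, hzi, hzw⟩ := hrep ⟨x * y, mul_mem (H.D_le_N hx) (H.D_le_N hy)⟩
  change z⁻¹ * (x * y) ∈ H.C at hzw
  have hzD : z⁻¹ * (x * y) ∈ H.D P := mul_mem (inv_mem hz) (mul_mem hx hy)
  have hfix := H.Sw_fix_C hP hu hzD hzw
  have e1 : u * (z⁻¹ * (x * y)) * u⁻¹ = z * (x⁻¹ * y⁻¹) := by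
    calc u * (z⁻¹ * (x * y)) * u⁻¹ = (u * z * u⁻¹)⁻¹ * ((u * x * u⁻¹) * (u * y * u⁻¹)) := by group
      _ = _ := by rw [hzi, hxi, hyi, inv_inv]
  rw [hfix] at e1
  -- so `z⁻¹ y x` lies in `C`
  have hz' : z⁻¹ * (y * x) ∈ H.C := by
    have e2 : y * x = (z⁻¹ * (x * y))⁻¹ * z := by rw [e1]; group
    rw [e2]
    have := H.C_normal_N (inv_mem (H.D_le_N hz)) (inv_mem hzw)
    rw [inv_inv] at this
    rwa [mul_assoc] at this
  have hxy : (y * x)⁻¹ * (x * y) ∈ H.C := by
    rw [show (y * x)⁻¹ * (x * y) = (z⁻¹ * (y * x))⁻¹ * (z⁻¹ * (x * y)) by group]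
    exact mul_mem (inv_mem hz') hzw
  -- transfer to `g` and `k`
  set c := x⁻¹ * (g : G) with hc
  set d := y⁻¹ * (k : G) with hd
  have hg : (g : G) = x * c := by rw [hc, mul_inv_cancel_left]
  have hk : (k : G) = y * d := by rw [hd, mul_inv_cancel_left]
  rw [hg, hk, show (y * d * (x * c))⁻¹ * (x * c * (y * d)) =
      c⁻¹ * (x⁻¹ * d⁻¹ * x⁻¹⁻¹) * ((y * x)⁻¹ * (x * y)) * (y⁻¹ * c * y⁻¹⁻¹) * d by group]
  exact mul_mem (mul_mem (mul_mem (mul_mem (inv_mem hxg)
    (H.C_normal_N (inv_mem (H.D_le_N hx)) (inv_mem hyk))) hxy)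
    (H.C_normal_N (inv_mem (H.D_le_N hy)) hxg)) hyk

theorem act_b_mul (g k : H.N) : H.lam (g * k) = H.lam g * H.sigHom g (H.lam k) := by
  have h1 := H.act_b (g * k) (x := zOne h) rfl
  rw [H.act_comp, H.act_b g (H.act_central k rfl), H.act_b k rfl] at h1
  change _ = H.lam (g * k) * H.sigHom (g * k) 1 at h1
  rw [map_one, mul_one] at h1
  rw [← h1]
  show H.lam g * H.sigHom g (H.lam k * H.sigHom k (1 : F)) = H.lam g * H.sigHom g (H.lam k)
  rw [map_one (H.sigHom k), mul_one]

theorem lam_surj {t : F} (ht : t ^ h.q = t) (ht0 : t ≠ 0) : ∃ g : H.N, H.lam g = t := by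
  let x : h.UQ := ⟨0, t, by simp [zero_pow q_ne_zero, ht, h.self_add]⟩
  have hord : orderOf (H.ι x) = 2 := orderOf_eq_prime
    (by rw [pow_two, ← map_mul, QField.UQ.sq_of_center rfl, map_one])
    (fun e => ht0 (congrArg QField.UQ.b (H.ι_inj (e.trans (map_one _).symm))))
  obtain ⟨g, hg⟩ := isConj_iff.1 (H.conj_all _ _ H.z0_order hord)
  have hgN : g ∈ H.N := H.ti H.z0_mem (fun e => by
    have := H.z0_order; rw [e, orderOf_one] at this; omega) (hg ▸ H.mem_S_of x)
  refine ⟨⟨g, hgN⟩, ?_⟩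
  have := H.conj_z0 ⟨g, hgN⟩
  rw [hg, H.ι_inj.eq_iff, H.act_zOne] at this
  exact (congrArg QField.UQ.b this).symm

theorem sig_fixed (g : H.N) {b : F} (hb : b ^ h.q = b) : H.sigHom g b = b := by
  refine semilinear_trivial H.lam H.sigHom H.lam_fixed (fun t ht ht0 => H.lam_surj ht ht0) ?_ ?_ g hb
  · intro g k e b hb
    have hc := (H.lam_eq_iff g k).1 e
    let c : H.N := ⟨(g : G)⁻¹ * k, H.C_le_N hc⟩
    have hk : k = g * c := Subtype.ext (by simp [c])
    let x : h.UQ := ⟨0, b, by simp [zero_pow q_ne_zero, hb, h.self_add]⟩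
    have h1 := H.act_b k (x := x) rfl
    rw [hk, H.act_comp, H.act_C (c := c) hc (x := x) rfl, H.act_b g (x := x) rfl, ← hk, ← e] at h1
    exact mul_left_cancel₀ (H.lam_fixed g).2 h1
  · intro g k
    rw [← H.act_b_mul, ← H.act_b_mul]
    refine ((H.lam_eq_iff (k * g) (g * k)).2 ?_).symm
    exact H.comm_mem_C g k

theorem pow_sig_C {c : H.N} (hc : (c : G) ∈ H.C) (a : F) : H.sigHom c a = a := by
  obtain ⟨y, d, hyd⟩ := H.mem_C.1 hc
  have key : ∀ a, H.L c a = ((d : Fˣ) : F) * a := by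
    intro a
    have e : H.act c (lift a) = y * twist d (lift a) * y⁻¹ := by
      apply H.ι_inj
      rw [H.act_spec, hyd, map_mul, map_mul, map_inv, ← H.conj]
      group
    rw [L, e, QField.UQ.mul_a, QField.UQ.mul_a]
    show y.a + ((d : Fˣ) : F) * (lift (h := h) a).a + y.a = _
    rw [lift_a]
    linear_combination y.a * h.two
  rw [sigHom_apply, sig, el, key, key, mul_one, mul_div_assoc]
  rw [← mul_div_assoc, mul_div_cancel_left₀ _ (d : Fˣ).ne_zero]

theorem sig_pow (g : H.N) (a : F) : ∀ n : ℕ, H.sigHom (g ^ n) a = (H.sigHom g)^[n] a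
  | 0 => by simpa using H.pow_sig_C (c := (1 : H.N)) (one_mem _) a
  | n + 1 => by
    rw [Function.iterate_succ_apply', ← sig_pow g a n, pow_succ']
    have e : H.L (g * g ^ n) a = H.L g (H.L (g ^ n) a) := by
      have := congrArg QField.UQ.a (H.act_comp g (g ^ n) (lift a))
      rwa [H.act_a, H.act_a, H.act_a, lift_a] at this
    have e1 : H.L (g * g ^ n) 1 = H.L g (H.L (g ^ n) 1) := by
      have := congrArg QField.UQ.a (H.act_comp g (g ^ n) (lift 1))
      rwa [H.act_a, H.act_a, H.act_a, lift_a] at this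
    rw [H.L_eq g, H.L_eq (g ^ n), map_mul] at e
    rw [H.L_eq g, H.L_eq (g ^ n) 1, map_one, mul_one] at e1
    rw [sigHom_apply (g := g * g ^ n), sig, el, e, e1]
    rw [← mul_assoc, mul_div_cancel_left₀ _ (mul_ne_zero (H.el_ne_zero g)
      ((map_ne_zero _).2 (H.el_ne_zero _)))]

/-- The normalizer acts linearly. -/
theorem linear (g : H.N) (a : F) : H.L g a = H.el g * a := by
  rw [H.L_eq]
  congr 1
  set σ := H.sigHom g with hσ
  have hc : σ a = a ∨ σ a = a ^ h.q := by
    have hs : σ (a + a ^ h.q) = a + a ^ h.q := H.sig_fixed g (by rw [h.add_pow', h.pow_pow', add_comm])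
    have hp : σ (a * a ^ h.q) = a * a ^ h.q := H.sig_fixed g (h.norm_fixed a)
    rw [map_add] at hs
    rw [map_mul] at hp
    have e : (σ a - a) * (σ a - a ^ h.q) = 0 := by linear_combination (σ a) * hs - hp
    rcases mul_eq_zero.1 e with e' | e'
    · exact Or.inl (sub_eq_zero.1 e')
    · exact Or.inr (sub_eq_zero.1 e')
  rcases hc with h1 | h1
  · exact h1
  have h2 : σ (σ a) = a := by rw [h1, map_pow, h1, h.pow_pow']
  obtain ⟨i, hi⟩ := odd_q_sub_one (h := h)
  have h3 := H.pow_sig_C (c := g ^ (h.q - 1)) (by simpa using H.pow_mem_C g.2) a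
  rw [H.sig_pow, ← hσ, hi, Function.iterate_add_apply, Function.iterate_one, Function.iterate_mul] at h3
  have hfix : (σ^[2]) (σ a) = σ a := congrArg σ h2
  rwa [Function.iterate_fixed hfix] at h3

/-- The scalar map. -/
noncomputable def elHom : H.N →* Fˣ :=
  MonoidHom.mk' (fun g => Units.mk0 (H.el g) (H.el_ne_zero g)) fun g k => Units.ext (by
    show H.el (g * k) = H.el g * H.el k
    have := congrArg QField.UQ.a (H.act_comp g k (lift 1))
    rw [H.act_a, H.act_a, H.act_a, lift_a, H.linear g, H.linear k, mul_one, H.linear, mul_one] at this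
    exact this)

theorem elHom_val (g : H.N) : (H.elHom g : F) = H.el g := rfl

theorem el_eq_one_iff (g : H.N) : H.el g = 1 ↔ (g : G) ∈ H.S := by
  have hS : ∀ g : H.N, ∀ y d, (g : G) = H.ι y * H.w d → H.el g = ((d : Fˣ) : F) := by
    intro g y d hyd
    have e : H.act g (lift 1) = y * twist d (lift 1) * y⁻¹ := by
      apply H.ι_inj
      rw [H.act_spec, hyd, map_mul, map_mul, map_inv, ← H.conj]
      group
    show (H.act g (lift 1)).a = _
    rw [e, QField.UQ.mul_a, QField.UQ.mul_a]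
    show y.a + ((d : Fˣ) : F) * (lift (h := h) 1).a + y.a = _
    rw [lift_a]
    linear_combination y.a * h.two
  constructor
  · intro e
    have hl : H.lam g = H.lam 1 := by
      have h1 : H.el 1 = 1 := by
        rw [hS 1 1 1 (by simp)]; simp
      rw [lam, lam, e, h1]
    have hc : (g : G) ∈ H.C := by
      have := (H.lam_eq_iff 1 g).1 hl.symm
      simpa using this
    obtain ⟨y, d, hyd⟩ := H.mem_C.1 hc
    rw [hS g y d hyd] at e
    rw [hyd, show d = 1 from Subtype.ext (Units.ext e), map_one, mul_one]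
    exact H.mem_S_of y
  · rintro ⟨y, hy⟩
    rw [hS g y 1 (by rw [map_one, mul_one, hy])]
    simp

/-- Commutators of the normalizer lie in the Sylow 2-subgroup. -/
theorem comm_mem_S {g k : G} (hg : g ∈ H.N) (hk : k ∈ H.N) : g * k * (k * g)⁻¹ ∈ H.S := by
  refine (H.el_eq_one_iff (⟨g, hg⟩ * ⟨k, hk⟩ * (⟨k, hk⟩ * ⟨g, hg⟩)⁻¹)).1 ?_
  rw [← H.elHom_val, map_mul, map_inv, map_mul, map_mul, mul_comm (H.elHom ⟨k, hk⟩), mul_inv_cancel,
    Units.val_one]

end Hypo

end CfsgLib.Recog.EvenUnitary
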